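import Mathlib

/-!
# The arithmetic of three columns

Three integer columns `m₀, m₁, m₂` on a set with an involution `σ` exchanging `m₁` and `m₂`.
-/

namespace CfsgLib.E8Solv

set_option autoImplicit false
set_option linter.unusedVariables false

/-- The data of the three columns. -/
structure Cols (I : Type*) [Fintype I] where
  m0 : I → ℤ
  m1 : I → ℤ
  D : I → ℕ
  e : I
  σ : I → I
  σσ : ∀ i, σ (σ i) = i
  σe : σ e = e
  m0σ : ∀ i, m0 (σ i) = m0 i
  Dσ : ∀ i, D (σ i) = D i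
  m0e : m0 e = 1
  m1e : m1 e = 0
  De : D e = 1
  Dpos : ∀ i, 0 < D i
  D1 : ∀ i, D i = 1 → i = e
  h00 : ∑ i, m0 i * m0 i = 4
  h11 : ∑ i, m1 i * m1 i = 4
  h01 : ∑ i, m0 i * m1 i = 2
  h12 : ∑ i, m1 i * m1 (σ i) = 2
  d0 : ∑ i, (D i : ℤ) * m0 i = 0
  d1 : ∑ i, (D i : ℤ) * m1 i = 0
  div : ∀ i, m0 i ≠ 0 ∨ m1 i ≠ 0 →
    (8 : ℤ) ∣ (D i : ℤ) + 7 * (m0 i + m1 i + m1 (σ i)) ∧ 0 ≤ (D i : ℤ) + 7 * (m0 i + m1 i + m1 (σ i))
  hv : ∑ i, ((m0 i + m1 i + m1 (σ i) : ℤ) : ℚ) ^ 2 * ((m0 i - m1 i : ℤ) : ℚ) / (D i : ℚ) = 0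

namespace Cols

variable {I : Type*} [Fintype I] (C : Cols I)

theorem abs_le_one {m : I → ℤ} (hsq : ∑ i, m i * m i = 4) (hd : ∑ i, (C.D i : ℤ) * m i = 0) (i : I) :
    m i = 0 ∨ m i = 1 ∨ m i = -1 := by
  classical
  by_contra h
  have h4 : 4 ≤ m i * m i := by
    rcases le_total 0 (m i) with h0 | h0
    · have : 2 ≤ m i := by omega
      nlinarith
    · have : m i ≤ -2 := by omega
      nlinarith
  have hz : ∀ j, j ≠ i → m j = 0 := by
    intro j hj
    have h1 := Finset.sum_le_sum_of_subset_of_nonneg (f := fun k => m k * m k)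
      (Finset.subset_univ {i, j}) (fun k _ _ => mul_self_nonneg _)
    rw [Finset.sum_pair hj.symm, hsq] at h1
    exact mul_self_eq_zero.1 (le_antisymm (by linarith) (mul_self_nonneg _))
  rw [Finset.sum_eq_single i (fun j _ hj => by rw [hz j hj, mul_zero]) (by simp)] at hd
  rcases mul_eq_zero.1 hd with h0 | h0
  · have := C.Dpos i
    omega
  · exact h (Or.inl h0)

theorem card_supp {m : I → ℤ} (hsq : ∑ i, m i * m i = 4) (hd : ∑ i, (C.D i : ℤ) * m i = 0) :
    (Finset.univ.filter fun i => m i ≠ 0).card = 4 := by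
  classical
  have h : ∀ i, m i * m i = if m i ≠ 0 then 1 else 0 := fun i => by
    rcases C.abs_le_one hsq hd i with h | h | h <;> simp [h]
  rw [Finset.sum_congr rfl fun i _ => h i, Finset.sum_boole] at hsq
  exact_mod_cast hsq

/-- The case where `σ` fixes the extra point of the first column. -/
theorem case_fixed {p q z r s : I} (hpq : p ≠ q) (hrs : r ≠ s)
    (hez : C.e ≠ z) (hep : C.e ≠ p) (heq : C.e ≠ q) (her : C.e ≠ r) (hes : C.e ≠ s)
    (hpz : p ≠ z) (hqz : q ≠ z) (hpr : p ≠ r) (hps : p ≠ s) (hqr : q ≠ r) (hqs : q ≠ s)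
    (hzr : z ≠ r) (hzs : z ≠ s)
    (hs0 : ∀ i, C.m0 i ≠ 0 ↔ i = C.e ∨ i = p ∨ i = q ∨ i = z)
    (hs1 : ∀ i, C.m1 i ≠ 0 ↔ i = p ∨ i = q ∨ i = r ∨ i = s)
    (hp : C.m1 p = C.m0 p) (hq : C.m1 q = C.m0 q) (hz : C.σ z = z) : False := by
  classical
  have h0 : ∀ {i}, i ≠ C.e → i ≠ p → i ≠ q → i ≠ z → C.m0 i = 0 := fun h h' h'' h''' => by
    by_contra h4
    rcases (hs0 _).1 h4 with e | e | e | e <;> contradiction
  have h1 : ∀ {i}, i ≠ p → i ≠ q → i ≠ r → i ≠ s → C.m1 i = 0 := fun h h' h'' h''' => by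
    by_contra h4
    rcases (hs1 _).1 h4 with e | e | e | e <;> contradiction
  have hp0 := (hs0 p).2 (by simp)
  have hq0 := (hs0 q).2 (by simp)
  have hσne : ∀ {i j}, i ≠ j → C.σ i ≠ C.σ j := fun h e => h (by have := congrArg C.σ e; rwa [C.σσ, C.σσ] at this)
  -- `σ` preserves `{p, q}`
  have hσp : C.σ p = p ∨ C.σ p = q := by
    rcases (hs0 _).1 (show C.m0 (C.σ p) ≠ 0 by rwa [C.m0σ]) with e | e | e | e
    · exact absurd (by rw [← C.σσ p, e, C.σe]) hep.symm
    · exact Or.inl e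
    · exact Or.inr e
    · exact absurd (by rw [← C.σσ p, e, hz]) hpz
  have hσq : C.σ q = p ∨ C.σ q = q := by
    rcases (hs0 _).1 (show C.m0 (C.σ q) ≠ 0 by rwa [C.m0σ]) with e | e | e | e
    · exact absurd (by rw [← C.σσ q, e, C.σe]) heq.symm
    · exact Or.inl e
    · exact Or.inr e
    · exact absurd (by rw [← C.σσ q, e, hz]) hqz
  have hm1σp : C.m1 (C.σ p) = C.m0 p := by
    rw [← C.m0σ p]
    rcases hσp with e | e <;> rw [e]
    exacts [hp, hq]
  have hm1σq : C.m1 (C.σ q) = C.m0 q := by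
    rw [← C.m0σ q]
    rcases hσq with e | e <;> rw [e]
    exacts [hp, hq]
  have hsum1 : ∀ f : I → ℤ, (∀ i, C.m1 i = 0 → f i = 0) → ∑ i, f i = f p + f q + f r + f s := by
    intro f hf
    rw [← Finset.sum_subset (Finset.subset_univ ({p, q, r, s} : Finset I)) (fun i _ hi => hf i (by
      simp only [Finset.mem_insert, Finset.mem_singleton, not_or] at hi
      exact h1 hi.1 hi.2.1 hi.2.2.1 hi.2.2.2))]
    rw [Finset.sum_insert (by simp [hpq, hpr, hps]), Finset.sum_insert (by simp [hqr, hqs]),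
      Finset.sum_pair hrs]
    ring
  have hrp : C.σ r ≠ p ∧ C.σ r ≠ q := by
    constructor <;> intro e
    · rcases hσp with e' | e' <;> rw [← e, C.σσ] at e'
      exacts [(hpr (by rw [← e]; exact e'.symm)).elim, hqr e'.symm]
    · rcases hσq with e' | e' <;> rw [← e, C.σσ] at e'
      exacts [hpr e'.symm, (hqr (by rw [← e]; exact e'.symm)).elim]
  have hsp : C.σ s ≠ p ∧ C.σ s ≠ q := by
    constructor <;> intro e
    · rcases hσp with e' | e' <;> rw [← e, C.σσ] at e'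
      exacts [(hps (by rw [← e]; exact e'.symm)).elim, hqs e'.symm]
    · rcases hσq with e' | e' <;> rw [← e, C.σσ] at e'
      exacts [hps e'.symm, (hqs (by rw [← e]; exact e'.symm)).elim]
  have h12 := C.h12
  rw [hsum1 _ (fun i hi => by rw [hi, zero_mul]), hm1σp, hm1σq, hp, hq] at h12
  have hr1 := (hs1 r).2 (by simp)
  have hs1' := (hs1 s).2 (by simp)
  have a0 := C.abs_le_one C.h00 C.d0
  have a1 := C.abs_le_one C.h11 C.d1
  have hp2 : C.m0 p * C.m0 p = 1 := by rcases a0 p with h | h | h <;> simp_all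
  have hq2 : C.m0 q * C.m0 q = 1 := by rcases a0 q with h | h | h <;> simp_all
  rw [hp2, hq2] at h12
  have hout : C.m1 (C.σ r) = 0 ∧ C.m1 (C.σ s) = 0 := by
    by_contra hcon
    have key : (C.σ r = r ∧ (C.m1 (C.σ s) = 0 ∨ C.σ s = s)) ∨ (C.σ r = s) ∨
        (C.σ s = s ∧ C.m1 (C.σ r) = 0) := by
      by_cases hr : C.m1 (C.σ r) = 0
      · have hs : C.m1 (C.σ s) ≠ 0 := fun h => hcon ⟨hr, h⟩
        rcases (hs1 _).1 hs with e | e | e | e
        · exact absurd e hsp.1
        · exact absurd e hsp.2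
        · exact Or.inr (Or.inl (by rw [← e, C.σσ]))
        · exact Or.inr (Or.inr ⟨e, hr⟩)
      · rcases (hs1 _).1 hr with e | e | e | e
        · exact absurd e hrp.1
        · exact absurd e hrp.2
        · by_cases hs : C.m1 (C.σ s) = 0
          · exact Or.inl ⟨e, Or.inl hs⟩
          · rcases (hs1 _).1 hs with e' | e' | e' | e'
            · exact absurd e' hsp.1
            · exact absurd e' hsp.2
            · exact absurd (hσne hrs (e.trans e'.symm)) (fun h => h)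
            · exact Or.inl ⟨e, Or.inr e'⟩
        · exact Or.inr (Or.inl e)
    rcases key with ⟨e, e' | e'⟩ | e | ⟨e, e'⟩
    · rw [e, e', mul_zero] at h12
      rcases a1 r with h | h | h <;> rw [h] at h12 <;> simp_all
    · rw [e, e'] at h12
      rcases a1 r with h | h | h <;> rcases a1 s with h' | h' | h' <;> rw [h, h'] at h12 <;> simp_all
    · rw [e, show C.σ s = r by rw [← e, C.σσ]] at h12
      rcases a1 r with h | h | h <;> rcases a1 s with h' | h' | h' <;> rw [h, h'] at h12 <;> simp_all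
    · rw [e, e', mul_zero] at h12
      rcases a1 s with h | h | h <;> rw [h] at h12 <;> simp_all
  -- degrees
  have hz1 : C.m1 z = 0 := h1 hpz.symm hqz.symm hzr hzs
  have hr0 : C.m0 r = 0 := h0 her.symm hpr.symm hqr.symm hzr.symm
  have hs0' : C.m0 s = 0 := h0 hes.symm hps.symm hqs.symm hzs.symm
  have hd0 := C.d0
  rw [← Finset.sum_subset (Finset.subset_univ ({C.e, p, q, z} : Finset I)) (fun i _ hi => by
      simp only [Finset.mem_insert, Finset.mem_singleton, not_or] at hi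
      rw [h0 hi.1 hi.2.1 hi.2.2.1 hi.2.2.2, mul_zero]),
    Finset.sum_insert (by simp [hep, heq, hez]), Finset.sum_insert (by simp [hpq, hpz]),
    Finset.sum_pair hqz, C.m0e, C.De] at hd0
  have hd1 := C.d1
  rw [hsum1 _ (fun i hi => by rw [hi, mul_zero]), hp, hq] at hd1
  have hv := C.hv
  rw [← Finset.sum_subset (Finset.subset_univ ({C.e, p, q, z, r, s} : Finset I)) (fun i _ hi => by
      simp only [Finset.mem_insert, Finset.mem_singleton, not_or] at hi
      rw [h0 hi.1 hi.2.1 hi.2.2.1 hi.2.2.2.1, h1 hi.2.1 hi.2.2.1 hi.2.2.2.2.1 hi.2.2.2.2.2]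
      simp),
    Finset.sum_insert (by simp [hep, heq, hez, her, hes]),
    Finset.sum_insert (by simp [hpq, hpz, hpr, hps]), Finset.sum_insert (by simp [hqz, hqr, hqs]),
    Finset.sum_insert (by simp [hzr, hzs]), Finset.sum_pair hrs] at hv
  rw [C.σe, C.m0e, C.m1e, C.De, hp, hq, hz, hz1, hr0, hs0', hout.1, hout.2] at hv
  have hzz : C.m0 z * C.m0 z = 1 := by
    rcases a0 z with h | h | h
    · exact absurd h ((hs0 z).2 (by simp))
    all_goals simp [h]
  have hrr : C.m1 r * C.m1 r = 1 := by rcases a1 r with h | h | h <;> simp_all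
  have hss : C.m1 s * C.m1 s = 1 := by rcases a1 s with h | h | h <;> simp_all
  set A : ℤ := (C.D z : ℤ) * C.m0 z with hA
  set R : ℤ := (C.D r : ℤ) * C.m1 r with hR
  set R' : ℤ := (C.D s : ℤ) * C.m1 s with hR'
  have hne : ∀ i, (C.D i : ℚ) ≠ 0 := fun i => Nat.cast_ne_zero.2 (C.Dpos i).ne'
  have e1 : R + R' = 1 + A := by push_cast at hd0; linarith
  have hinv : ∀ (i : I) (m : ℤ), m * m = 1 →
      ((m : ℚ)) ^ 2 * (m : ℚ) / (C.D i : ℚ) = 1 / (((C.D i : ℤ) * m : ℤ) : ℚ) := by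
    intro i m hm
    rcases mul_self_eq_one_iff.1 hm with rfl | rfl <;> push_cast <;> field_simp <;> ring
  have hv' : 1 + 1 / (A : ℚ) = 1 / (R : ℚ) + 1 / (R' : ℚ) := by
    rw [hA, hR, hR', ← hinv z _ hzz, ← hinv r _ hrr, ← hinv s _ hss]
    push_cast at hv ⊢
    linear_combination hv
  have hA0 : A ≠ 0 := mul_ne_zero (by exact_mod_cast (C.Dpos z).ne') ((hs0 z).2 (by simp))
  have hR0 : R ≠ 0 := mul_ne_zero (by exact_mod_cast (C.Dpos r).ne') hr1
  have hR'0 : R' ≠ 0 := mul_ne_zero (by exact_mod_cast (C.Dpos s).ne') hs1'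
  have hA0q : (A : ℚ) ≠ 0 := by exact_mod_cast hA0
  have hR0q : (R : ℚ) ≠ 0 := by exact_mod_cast hR0
  have hR'0q : (R' : ℚ) ≠ 0 := by exact_mod_cast hR'0
  field_simp at hv'
  have key : (A + 1) * ((R - 1) * (R' - 1)) = 0 := by
    have h : ((A : ℚ) + 1) * ((R : ℚ) * R') = ((R : ℚ) + R') * A := by linarith
    have h' : (A + 1) * (R * R') = (R + R') * A := by exact_mod_cast h
    linear_combination h' + (-(A + 1) + A) * e1
  have deg : ∀ i (m : ℤ), m * m = 1 → ((C.D i : ℤ) * m = 1 ∨ (C.D i : ℤ) * m = -1) → i = C.e := by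
    intro i m hm h
    refine C.D1 i ?_
    rcases mul_self_eq_one_iff.1 hm with rfl | rfl <;> rcases h with h | h <;> omega
  rcases mul_eq_zero.1 key with h | h
  · exact hez (deg z _ hzz (Or.inr (show A = -1 by omega))).symm
  rcases mul_eq_zero.1 h with h | h
  · exact her (deg r _ hrr (Or.inl (show R = 1 by omega))).symm
  · exact hes (deg s _ hss (Or.inl (show R' = 1 by omega))).symm

/-- The case where `σ` moves the extra point of the first column. -/
theorem case_moved {p q z r s : I} (hpq : p ≠ q) (hrs : r ≠ s)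
    (hez : C.e ≠ z) (hep : C.e ≠ p) (heq : C.e ≠ q) (her : C.e ≠ r) (hes : C.e ≠ s)
    (hpz : p ≠ z) (hqz : q ≠ z) (hpr : p ≠ r) (hps : p ≠ s) (hqr : q ≠ r) (hqs : q ≠ s)
    (hzr : z ≠ r) (hzs : z ≠ s)
    (hs0 : ∀ i, C.m0 i ≠ 0 ↔ i = C.e ∨ i = p ∨ i = q ∨ i = z)
    (hs1 : ∀ i, C.m1 i ≠ 0 ↔ i = p ∨ i = q ∨ i = r ∨ i = s)
    (hp : C.m1 p = C.m0 p) (hq : C.m1 q = C.m0 q) (hz : C.σ z = p)
    (hr : C.σ r = r) (hs : C.m1 (C.σ s) = 0) : False := by
  classical
  have h0 : ∀ {i}, i ≠ C.e → i ≠ p → i ≠ q → i ≠ z → C.m0 i = 0 := fun h h' h'' h''' => by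
    by_contra h4
    rcases (hs0 _).1 h4 with e | e | e | e <;> contradiction
  have h1 : ∀ {i}, i ≠ p → i ≠ q → i ≠ r → i ≠ s → C.m1 i = 0 := fun h h' h'' h''' => by
    by_contra h4
    rcases (hs1 _).1 h4 with e | e | e | e <;> contradiction
  have hσp : C.σ p = z := by rw [← hz, C.σσ]
  have hσq : C.σ q = q := by
    rcases (hs0 _).1 (show C.m0 (C.σ q) ≠ 0 by rw [C.m0σ]; exact (hs0 q).2 (by simp)) with e | e | e | e
    · exact absurd (by rw [← C.σσ q, e, C.σe]) heq.symm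
    · exact absurd (by rw [← C.σσ q, e, hσp]) hqz
    · exact e
    · exact absurd (by rw [← C.σσ q, e, hz]) hpq.symm
  have hpz0 : C.m0 p = C.m0 z := by rw [← hz, C.m0σ]
  have hz1 : C.m1 z = 0 := h1 hpz.symm hqz.symm hzr hzs
  have hr0 : C.m0 r = 0 := h0 her.symm hpr.symm hqr.symm hzr.symm
  have hs0' : C.m0 s = 0 := h0 hes.symm hps.symm hqs.symm hzs.symm
  have a0 := C.abs_le_one C.h00 C.d0
  have a1 := C.abs_le_one C.h11 C.d1
  have hd0 := C.d0
  rw [← Finset.sum_subset (Finset.subset_univ ({C.e, p, q, z} : Finset I)) (fun i _ hi => by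
      simp only [Finset.mem_insert, Finset.mem_singleton, not_or] at hi
      rw [h0 hi.1 hi.2.1 hi.2.2.1 hi.2.2.2, mul_zero]),
    Finset.sum_insert (by simp [hep, heq, hez]), Finset.sum_insert (by simp [hpq, hpz]),
    Finset.sum_pair hqz, C.m0e, C.De, hpz0, show C.D p = C.D z by rw [← hz, C.Dσ]] at hd0
  have hd1 := C.d1
  rw [← Finset.sum_subset (Finset.subset_univ ({p, q, r, s} : Finset I)) (fun i _ hi => by
      simp only [Finset.mem_insert, Finset.mem_singleton, not_or] at hi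
      rw [h1 hi.1 hi.2.1 hi.2.2.1 hi.2.2.2, mul_zero]),
    Finset.sum_insert (by simp [hpq, hpr, hps]), Finset.sum_insert (by simp [hqr, hqs]),
    Finset.sum_pair hrs, hp, hq, hpz0, show C.D p = C.D z by rw [← hz, C.Dσ]] at hd1
  have hv := C.hv
  rw [← Finset.sum_subset (Finset.subset_univ ({C.e, p, q, z, r, s} : Finset I)) (fun i _ hi => by
      simp only [Finset.mem_insert, Finset.mem_singleton, not_or] at hi
      rw [h0 hi.1 hi.2.1 hi.2.2.1 hi.2.2.2.1, h1 hi.2.1 hi.2.2.1 hi.2.2.2.2.1 hi.2.2.2.2.2]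
      simp),
    Finset.sum_insert (by simp [hep, heq, hez, her, hes]),
    Finset.sum_insert (by simp [hpq, hpz, hpr, hps]), Finset.sum_insert (by simp [hqz, hqr, hqs]),
    Finset.sum_insert (by simp [hzr, hzs]), Finset.sum_pair hrs] at hv
  rw [C.σe, C.m0e, C.m1e, C.De, hp, hq, hz, hσp, hσq, hr, hz1, hr0, hs0', hs, hp, hpz0] at hv
  obtain ⟨hdiv, hnn⟩ := C.div z (Or.inl ((hs0 z).2 (by simp)))
  rw [hz, hz1, hp, hpz0] at hdiv hnn
  have hzz : C.m0 z * C.m0 z = 1 := by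
    rcases a0 z with h | h | h
    · exact absurd h ((hs0 z).2 (by simp))
    all_goals simp [h]
  have hrr : C.m1 r * C.m1 r = 1 := by
    rcases a1 r with h | h | h
    · exact absurd h ((hs1 r).2 (by simp))
    all_goals simp [h]
  have hss : C.m1 s * C.m1 s = 1 := by
    rcases a1 s with h | h | h
    · exact absurd h ((hs1 s).2 (by simp))
    all_goals simp [h]
  set Z : ℤ := (C.D z : ℤ) * C.m0 z with hZ
  set Y : ℤ := (C.D r : ℤ) * C.m1 r with hY
  set R : ℤ := (C.D s : ℤ) * C.m1 s with hR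
  have e1 : Y + R = 1 + Z := by push_cast at hd0; linarith
  have hne : ∀ i, (C.D i : ℚ) ≠ 0 := fun i => Nat.cast_ne_zero.2 (C.Dpos i).ne'
  have hinv : ∀ (i : I) (m : ℤ), m * m = 1 →
      ((m : ℚ)) ^ 2 * (m : ℚ) / (C.D i : ℚ) = 1 / (((C.D i : ℤ) * m : ℤ) : ℚ) := by
    intro i m hm
    rcases mul_self_eq_one_iff.1 hm with rfl | rfl <;> push_cast <;> field_simp <;> ring
  have hv' : 1 + 4 * (1 / (Z : ℚ)) = 4 * (1 / (Y : ℚ)) + 1 / (R : ℚ) := by
    rw [hZ, hY, hR, ← hinv z _ hzz, ← hinv r _ hrr, ← hinv s _ hss]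
    push_cast at hv ⊢
    linear_combination hv
  have hZ0 : (Z : ℚ) ≠ 0 := Int.cast_ne_zero.2
    (mul_ne_zero (by exact_mod_cast (C.Dpos z).ne') ((hs0 z).2 (by simp)))
  have hY0 : (Y : ℚ) ≠ 0 := Int.cast_ne_zero.2
    (mul_ne_zero (by exact_mod_cast (C.Dpos r).ne') ((hs1 r).2 (by simp)))
  have hR0 : (R : ℚ) ≠ 0 := Int.cast_ne_zero.2
    (mul_ne_zero (by exact_mod_cast (C.Dpos s).ne') ((hs1 s).2 (by simp)))
  field_simp at hv'
  have key : (R - 1) * ((Z + 4) * R - Z * (Z + 1)) = 0 := by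
    have h : ((Z : ℚ) + 4) * (Y * R) = (Z : ℚ) * (4 * R + Y) := by linarith
    have h' : (Z + 4) * (Y * R) = Z * (4 * R + Y) := by exact_mod_cast h
    linear_combination -h' + ((Z + 4) * R - Z) * e1
  rcases mul_eq_zero.1 key with h | h
  · refine hes (C.D1 s ?_).symm
    have hR1 : (C.D s : ℤ) * C.m1 s = 1 := by omega
    rcases mul_self_eq_one_iff.1 hss with e | e <;> rw [e] at hR1 <;> omega
  have h12 : Z + 4 ∣ 12 := ⟨R - Z + 3, by linear_combination -h⟩
  rcases mul_self_eq_one_iff.1 hzz with e | e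
  · rw [e] at hdiv hnn
    have hZ' : Z = (C.D z : ℤ) := by rw [hZ, e, mul_one]
    have h2 : 2 ≤ C.D z := by
      have := C.Dpos z
      by_contra h2
      exact hez (C.D1 z (by omega)).symm
    have hle := Int.le_of_dvd (by norm_num) h12
    have h8 : C.D z = 2 := by
      have : C.D z ≤ 8 := by omega
      interval_cases hk : C.D z <;> simp_all <;> omega
    rw [hZ', h8] at h
    have hR1 : R = 1 := by push_cast at h; omega
    refine hes (C.D1 s ?_).symm
    rcases mul_self_eq_one_iff.1 hss with e' | e' <;> rw [hR, e'] at hR1 <;> omega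
  · rw [e] at hdiv hnn
    have hZ' : Z = -(C.D z : ℤ) := by rw [hZ, e]; ring
    have hle := Int.le_of_dvd (show (0 : ℤ) < 12 by norm_num) (neg_dvd.2 h12)
    have : C.D z ≤ 16 := by omega
    have : 14 ≤ C.D z := by omega
    interval_cases hk : C.D z <;> simp_all <;> omega

/-- No such columns. -/
theorem false (C : Cols I) : False := by
  classical
  have a0 := C.abs_le_one C.h00 C.d0
  have a1 := C.abs_le_one C.h11 C.d1
  set S0 := (Finset.univ.filter fun i => C.m0 i ≠ 0).erase C.e with hS0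
  set S1 := Finset.univ.filter fun i => C.m1 i ≠ 0 with hS1
  have c0 : S0.card = 3 := by
    rw [hS0, Finset.card_erase_of_mem (by simp [C.m0e]), C.card_supp C.h00 C.d0]
  have c1 : S1.card = 4 := C.card_supp C.h11 C.d1
  set P := S0.filter fun i => C.m1 i ≠ 0 with hP
  have hPsum : ∑ i ∈ P, C.m0 i * C.m1 i = 2 := by
    rw [← C.h01]
    refine Finset.sum_subset (Finset.subset_univ _) fun i _ hi => ?_
    by_cases he : i = C.e
    · rw [he, C.m1e, mul_zero]
    simp only [hP, hS0, Finset.mem_filter, Finset.mem_erase, Finset.mem_univ, true_and, not_and,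
      not_not] at hi
    by_cases h : C.m0 i = 0
    · rw [h, zero_mul]
    · rw [hi ⟨he, h⟩, mul_zero]
  have hterm : ∀ i ∈ P, C.m0 i * C.m1 i = 1 ∨ C.m0 i * C.m1 i = -1 := by
    intro i hi
    simp only [hP, hS0, Finset.mem_filter, Finset.mem_erase, Finset.mem_univ, true_and] at hi
    rcases a0 i with h | h | h <;> rcases a1 i with h' | h' | h' <;> simp_all
  have hPle : P.card ≤ 3 := c0 ▸ Finset.card_filter_le _ _
  have hP2 : P.card = 2 := by
    by_contra hne
    rcases Nat.lt_or_ge P.card 2 with h | h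
    · have : ∑ i ∈ P, C.m0 i * C.m1 i ≤ P.card * 1 := by
        refine Finset.sum_le_card_nsmul P _ 1 (fun i hi => ?_) |>.trans (by simp)
        rcases hterm i hi with e | e <;> omega
      omega
    · obtain ⟨a, b, c, hab, hac, hbc, hP3⟩ := Finset.card_eq_three.1 (show P.card = 3 by omega)
      rw [hP3, Finset.sum_insert (by simp [hab, hac]), Finset.sum_pair hbc] at hPsum
      rcases hterm a (by simp [hP3]) with e | e <;> rcases hterm b (by simp [hP3]) with e' | e' <;>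
        rcases hterm c (by simp [hP3]) with e'' | e'' <;> omega
  obtain ⟨p, q, hpq, hPeq⟩ := Finset.card_eq_two.1 hP2
  rw [hPeq, Finset.sum_pair hpq] at hPsum
  have hp1 : C.m0 p * C.m1 p = 1 := by
    rcases hterm p (by simp [hPeq]) with e | e <;> rcases hterm q (by simp [hPeq]) with e' | e' <;> omega
  have hq1 : C.m0 q * C.m1 q = 1 := by omega
  have heqm : ∀ i, C.m0 i * C.m1 i = 1 → C.m1 i = C.m0 i := fun i h => by
    rcases Int.eq_one_or_neg_one_of_mul_eq_one h with e | e <;> rw [e] at h ⊢ <;> omega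
  have hsd0 : (S0 \ P).card = 1 := by
    rw [Finset.card_sdiff_of_subset (Finset.filter_subset _ _), c0, hP2]
  obtain ⟨z, hz⟩ := Finset.card_eq_one.1 hsd0
  have hPS1 : P ⊆ S1 := fun i hi => by simp [hS1, (Finset.mem_filter.1 hi).2]
  have hsd1 : (S1 \ P).card = 2 := by rw [Finset.card_sdiff_of_subset hPS1, c1, hP2]
  obtain ⟨r, s, hrs, hrseq⟩ := Finset.card_eq_two.1 hsd1
  have hpS : p ∈ S0 ∧ C.m1 p ≠ 0 :=
    Finset.mem_filter.1 (show p ∈ P by rw [hPeq]; simp)
  have hqS : q ∈ S0 ∧ C.m1 q ≠ 0 :=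
    Finset.mem_filter.1 (show q ∈ P by rw [hPeq]; simp)
  have hzS : z ∈ S0 ∧ z ∉ P := Finset.mem_sdiff.1 (by rw [hz]; simp)
  have hrS : r ∈ S1 ∧ r ∉ P := Finset.mem_sdiff.1 (by rw [hrseq]; simp)
  have hsS : s ∈ S1 ∧ s ∉ P := Finset.mem_sdiff.1 (by rw [hrseq]; simp)
  have hs0 : ∀ i, C.m0 i ≠ 0 ↔ i = C.e ∨ i = p ∨ i = q ∨ i = z := by
    intro i
    constructor
    · intro h
      by_cases he : i = C.e
      · exact Or.inl he
      by_cases hiP : i ∈ P
      · rw [hPeq] at hiP; simp at hiP; tauto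
      have : i ∈ S0 \ P := Finset.mem_sdiff.2 ⟨by simp [hS0, he, h], hiP⟩
      rw [hz] at this; simp at this; tauto
    · rintro (rfl | rfl | rfl | rfl)
      · simp [C.m0e]
      all_goals simp [hS0] at hpS hqS hzS; tauto
  have hs1 : ∀ i, C.m1 i ≠ 0 ↔ i = p ∨ i = q ∨ i = r ∨ i = s := by
    intro i
    constructor
    · intro h
      by_cases hiP : i ∈ P
      · rw [hPeq] at hiP; simp at hiP; tauto
      have : i ∈ S1 \ P := Finset.mem_sdiff.2 ⟨by simp [hS1, h], hiP⟩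
      rw [hrseq] at this; simp at this; tauto
    · rintro (rfl | rfl | rfl | rfl)
      · exact hpS.2
      · exact hqS.2
      · exact (Finset.mem_filter.1 hrS.1).2
      · exact (Finset.mem_filter.1 hsS.1).2
  have hep : C.e ≠ p := fun h => Finset.ne_of_mem_erase hpS.1 h.symm
  have heq : C.e ≠ q := fun h => Finset.ne_of_mem_erase hqS.1 h.symm
  have hez : C.e ≠ z := fun h => Finset.ne_of_mem_erase hzS.1 h.symm
  have her : C.e ≠ r := fun h => (Finset.mem_filter.1 hrS.1).2 (h ▸ C.m1e)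
  have hes : C.e ≠ s := fun h => (Finset.mem_filter.1 hsS.1).2 (h ▸ C.m1e)
  have hpz : p ≠ z := fun h => hzS.2 (by rw [hPeq, ← h]; simp)
  have hqz : q ≠ z := fun h => hzS.2 (by rw [hPeq, ← h]; simp)
  have hpr : p ≠ r := fun h => hrS.2 (by rw [hPeq, ← h]; simp)
  have hps : p ≠ s := fun h => hsS.2 (by rw [hPeq, ← h]; simp)
  have hqr : q ≠ r := fun h => hrS.2 (by rw [hPeq, ← h]; simp)
  have hqs : q ≠ s := fun h => hsS.2 (by rw [hPeq, ← h]; simp)
  have hzm : C.m1 z = 0 := by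
    by_contra h
    exact hzS.2 (Finset.mem_filter.2 ⟨hzS.1, h⟩)
  have hzr : z ≠ r := fun h => (Finset.mem_filter.1 hrS.1).2 (h ▸ hzm)
  have hzs : z ≠ s := fun h => (Finset.mem_filter.1 hsS.1).2 (h ▸ hzm)
  have hp := heqm p hp1
  have hq := heqm q hq1
  by_cases hzz : C.σ z = z
  · exact C.case_fixed hpq hrs hez hep heq her hes hpz hqz hpr hps hqr hqs hzr hzs hs0 hs1 hp hq hzz
  -- normalise so that `σ z = p`
  obtain ⟨p, q, hpq, hep, heq, hpz, hqz, hpr, hps, hqr, hqs, hp, hq, hs0, hs1, hσz⟩ :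
      ∃ p q, p ≠ q ∧ C.e ≠ p ∧ C.e ≠ q ∧ p ≠ z ∧ q ≠ z ∧ p ≠ r ∧ p ≠ s ∧ q ≠ r ∧ q ≠ s ∧
        C.m1 p = C.m0 p ∧ C.m1 q = C.m0 q ∧
        (∀ i, C.m0 i ≠ 0 ↔ i = C.e ∨ i = p ∨ i = q ∨ i = z) ∧
        (∀ i, C.m1 i ≠ 0 ↔ i = p ∨ i = q ∨ i = r ∨ i = s) ∧ C.σ z = p := by
    rcases (hs0 _).1 (show C.m0 (C.σ z) ≠ 0 by rw [C.m0σ]; exact (hs0 z).2 (by simp)) with e | e | e | e
    · exact absurd (by rw [← C.σσ z, e, C.σe]) hez.symm
    · exact ⟨p, q, hpq, hep, heq, hpz, hqz, hpr, hps, hqr, hqs, hp, hq, hs0, hs1, e⟩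
    · exact ⟨q, p, hpq.symm, heq, hep, hqz, hpz, hqr, hqs, hpr, hps, hq, hp,
        fun i => (hs0 i).trans (by tauto), fun i => (hs1 i).trans (by tauto), e⟩
    · exact absurd e hzz
  have hσp : C.σ p = z := by rw [← hσz, C.σσ]
  have hσq : C.σ q = q := by
    rcases (hs0 _).1 (show C.m0 (C.σ q) ≠ 0 by rw [C.m0σ]; exact (hs0 q).2 (by simp)) with e | e | e | e
    · exact absurd (by rw [← C.σσ q, e, C.σe]) heq.symm
    · exact absurd (by rw [← C.σσ q, e, hσp]) hqz
    · exact e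
    · exact absurd (by rw [← C.σσ q, e, hσz]) hpq.symm
  have h12 := C.h12
  rw [← Finset.sum_subset (Finset.subset_univ ({p, q, r, s} : Finset I)) (fun i _ hi => by
      simp only [Finset.mem_insert, Finset.mem_singleton, not_or] at hi
      rw [show C.m1 i = 0 by
        by_contra h
        rcases (hs1 i).1 h with e | e | e | e <;> simp [e] at hi, zero_mul]),
    Finset.sum_insert (by simp [hpq, hpr, hps]), Finset.sum_insert (by simp [hqr, hqs]),
    Finset.sum_pair hrs, hσp, hσq, hzm, mul_zero] at h12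
  have hq2 : C.m1 q * C.m1 q = 1 := by
    rcases a1 q with h | h | h
    · exact absurd h ((hs1 q).2 (by simp))
    all_goals simp [h]
  rw [hq2] at h12
  have hout : ∀ i, i = r ∨ i = s → C.m1 (C.σ i) ≠ 0 → C.σ i = r ∨ C.σ i = s := by
    intro i hi h
    rcases (hs1 _).1 h with e | e | e | e
    · have : i = z := by rw [← C.σσ i, e, hσp]
      rcases hi with rfl | rfl
      exacts [absurd this.symm hzr, absurd this.symm hzs]
    · have : i = q := by rw [← C.σσ i, e, hσq]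
      rcases hi with rfl | rfl
      exacts [absurd this.symm hqr, absurd this.symm hqs]
    · exact Or.inl e
    · exact Or.inr e
  have hm2 : ∀ i, i = r ∨ i = s → C.m1 i * C.m1 i = 1 := by
    intro i hi
    rcases a1 i with h | h | h
    · exact absurd h ((hs1 i).2 (by tauto))
    all_goals simp [h]
  by_cases hr : C.σ r = r
  · refine C.case_moved hpq hrs hez hep heq her hes hpz hqz hpr hps hqr hqs hzr hzs hs0 hs1 hp hq hσz
      hr ?_
    rw [hr, hm2 r (Or.inl rfl)] at h12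
    rcases mul_eq_zero.1 (show C.m1 s * C.m1 (C.σ s) = 0 by omega) with h | h
    · exact absurd h ((hs1 s).2 (by simp))
    · exact h
  by_cases hs : C.σ s = s
  · refine C.case_moved hpq hrs.symm hez hep heq hes her hpz hqz hps hpr hqs hqr hzs hzr hs0
      (fun i => (hs1 i).trans (by tauto)) hp hq hσz hs ?_
    rw [hs, hm2 s (Or.inr rfl)] at h12
    rcases mul_eq_zero.1 (show C.m1 r * C.m1 (C.σ r) = 0 by omega) with h | h
    · exact absurd h ((hs1 r).2 (by simp))
    · exact h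
  by_cases hrs' : C.σ r = s
  · rw [hrs', show C.σ s = r by rw [← hrs', C.σσ]] at h12
    rw [mul_comm (C.m1 s)] at h12
    omega
  have h1 : C.m1 (C.σ r) = 0 := by
    by_contra h
    rcases hout r (Or.inl rfl) h with e | e
    exacts [hr e, hrs' e]
  have h2 : C.m1 (C.σ s) = 0 := by
    by_contra h
    rcases hout s (Or.inr rfl) h with e | e
    · exact hrs' (by rw [← e, C.σσ])
    · exact hs e
  rw [h1, h2, mul_zero, mul_zero] at h12
  omega

end Cols

end CfsgLib.E8Solv
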