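import Cfsg.Agent.Lib.E8Solv.Columns
import Cfsg.Agent.Lib.E8Solv.Arith

/-!
# The configuration does not occur in a simple group
-/

namespace CfsgLib.E8Solv

open Cfsg CfsgLib CfsgLib.CharTheory CfsgLib.Blocks
open scoped ComplexConjugate

set_option autoImplicit false
set_option linter.style.haveILetI false
set_option linter.unusedSectionVars false

universe u

namespace Data

variable {G : Type u} [Group G] [Fintype G] (D : Data G)

theorem y_zero : D.y 0 = D.T := by rw [y, pow_zero, mul_one]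

theorem avg_one (y : D.H) : D.avg (fun _ => 1) y = 1 := by
  rw [avg, Finset.sum_const, Finset.card_univ, nsmul_eq_mul, mul_one, Nat.card_eq_fintype_card,
    inv_mul_cancel₀ (Nat.cast_ne_zero.2 Fintype.card_ne_zero)]

/-- The multiplicities of the columns are integers. -/
theorem exists_int_mult (χ : IrrCharacter G) {w : ℂ} (hw : w ^ 3 = 1) :
    ∃ m : ℤ, (D.avg (χ : G → ℂ) (D.y 0) + conj w * D.avg (χ : G → ℂ) (D.y 1) +
      w * D.avg (χ : G → ℂ) (D.y 2)) / 3 = (m : ℂ) := by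
  classical
  let q := QuotientGroup.mk' D.O
  let y₁ := q (D.y 1)
  have hb3 : q D.b ^ 3 = 1 := by
    rw [← map_pow]; exact (QuotientGroup.eq_one_iff _).2 D.b_cube
  have hTc : Commute (q D.T) (q D.b) := (D.T_comm D.b).map q
  have hy : y₁ = q D.T * q D.b := by
    show q (D.T * D.b ^ 1) = _
    rw [pow_one, map_mul]
  have hT2 : q D.T ^ 2 = 1 := by rw [← map_pow, pow_two, D.T_sq, map_one]
  have hy6 : y₁ ^ 6 = 1 := by
    rw [hy, hTc.mul_pow, show q D.T ^ 6 = (q D.T ^ 2) ^ 3 by rw [← pow_mul],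
      show q D.b ^ 6 = (q D.b ^ 3) ^ 2 by rw [← pow_mul], hT2, hb3, one_pow, one_pow, one_mul]
  have hord : orderOf y₁ = 6 := by
    have hd := orderOf_dvd_of_pow_eq_one hy6
    have h2 : ¬ orderOf y₁ ∣ 2 := fun h => by
      have e := orderOf_dvd_iff_pow_eq_one.1 h
      rw [hy, hTc.mul_pow, hT2, one_mul, ← map_pow] at e
      exact absurd (D.pow_mem_iff (s := 1) (by simp) (i := 2) (by norm_num)
        (by simpa using (QuotientGroup.eq_one_iff _).1 e)).1 (by norm_num)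
    have h3 : ¬ orderOf y₁ ∣ 3 := fun h => by
      have e := orderOf_dvd_iff_pow_eq_one.1 h
      rw [hy, hTc.mul_pow, hb3, mul_one, pow_succ, hT2, one_mul] at e
      exact D.T_ne (D.eq_one_of_mem_O D.t_mem ((QuotientGroup.eq_one_iff _).1 e))
    have hle := Nat.le_of_dvd (by norm_num) hd
    interval_cases h : orderOf y₁ <;> omega
  let W : Subgroup D.H := (Subgroup.zpowers y₁).comap q
  let π : W →* Subgroup.zpowers y₁ := (q.comp W.subtype).codRestrict _ fun x => x.2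
  let g : Subgroup.zpowers y₁ := ⟨y₁, Subgroup.mem_zpowers _⟩
  have hg : ∀ x, x ∈ Subgroup.zpowers g := by
    rintro ⟨_, i, rfl⟩
    exact ⟨i, Subtype.ext (by simp [g])⟩
  have hgord : orderOf g = 6 := by rw [← Subgroup.orderOf_coe]; exact hord
  have hyW : D.y 1 ∈ W := Subgroup.mem_zpowers y₁
  let f : Fin 6 × D.O → W := fun p =>
    ⟨D.y 1 ^ (p.1 : ℕ) * p.2, mul_mem (pow_mem hyW _) (by
      show q (p.2 : D.H) ∈ Subgroup.zpowers y₁
      rw [show q (p.2 : D.H) = 1 from (QuotientGroup.eq_one_iff _).2 p.2.2]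
      exact one_mem _)⟩
  have hqf : ∀ p, q (f p : D.H) = y₁ ^ (p.1 : ℕ) := fun p => by
    show q (D.y 1 ^ (p.1 : ℕ) * p.2) = _
    rw [map_mul, map_pow, show q (p.2 : D.H) = 1 from (QuotientGroup.eq_one_iff _).2 p.2.2, mul_one]
  have hf : Function.Bijective f := by
    refine ⟨fun p p' e => ?_, fun x => ?_⟩
    · have e1 : y₁ ^ (p.1 : ℕ) = y₁ ^ (p'.1 : ℕ) := by rw [← hqf p, ← hqf p', e]
      have e2 : p.1 = p'.1 := Fin.ext (pow_injOn_Iio_orderOf (by rw [hord]; exact p.1.2)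
        (by rw [hord]; exact p'.1.2) e1)
      have e3 : D.y 1 ^ (p.1 : ℕ) * p.2 = D.y 1 ^ (p'.1 : ℕ) * p'.2 := congrArg Subtype.val e
      rw [e2] at e3
      exact Prod.ext e2 (Subtype.ext (mul_left_cancel e3))
    · obtain ⟨n, hn, e⟩ := Finset.mem_image.1
        ((isOfFinOrder_of_finite y₁).mem_zpowers_iff_mem_range_orderOf.1 x.2)
      rw [Finset.mem_range, hord] at hn
      refine ⟨(⟨n, hn⟩, ⟨(D.y 1 ^ n)⁻¹ * x, ?_⟩), Subtype.ext (mul_inv_cancel_left _ _)⟩
      rw [← QuotientGroup.eq_one_iff]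
      show q ((D.y 1 ^ n)⁻¹ * x) = 1
      rw [map_mul, map_inv, map_pow, e, inv_mul_cancel]
  have hWcard : (Nat.card W : ℂ) = 6 * Nat.card D.O := by
    rw [← Nat.card_congr (Equiv.ofBijective f hf), Nat.card_prod,
      Nat.card_eq_fintype_card (α := Fin 6), Fintype.card_fin]
    push_cast; rfl
  have key : ∀ ζ : ℂˣ, ζ ^ 6 = 1 → ∃ n : ℕ, (6 : ℂ)⁻¹ * ∑ i : Fin 6,
      D.avg (χ : G → ℂ) (D.y 1 ^ (i : ℕ)) * conj (ζ : ℂ) ^ (i : ℕ) = n := by
    intro ζ hζ
    let φ := monoidHomOfForallMemZpowers hg (g' := ζ) (by rw [hgord]; exact orderOf_dvd_of_pow_eq_one hζ)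
    obtain ⟨n, hn⟩ := classInner_char_nat
      (isCharacter_restrict (isCharacter_restrict_irr D.H χ) W)
      (isCharacter_of_irr (isIrrCharacter_linear (φ.comp π)))
    refine ⟨n, ?_⟩
    rw [← hn, classInner, hWcard, ← (Equiv.ofBijective f hf).sum_comp, Fintype.sum_prod_type]
    have hφ : ∀ p, ((φ.comp π (f p) : ℂˣ) : ℂ) = (ζ : ℂ) ^ (p.1 : ℕ) := fun p => by
      have : π (f p) = g ^ (p.1 : ℕ) := Subtype.ext (hqf p)
      rw [MonoidHom.comp_apply, this, map_pow, monoidHomOfForallMemZpowers_apply_gen,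
        Units.val_pow_eq_pow_val]
    simp only [Equiv.ofBijective_apply, hφ, map_pow, avg]
    rw [mul_inv, mul_assoc, Finset.mul_sum, Finset.mul_sum, Finset.mul_sum]
    refine Finset.sum_congr rfl fun i _ => ?_
    simp only [Finset.mul_sum, Finset.sum_mul]
    refine Finset.sum_congr rfl fun k _ => ?_
    show _ = _ * (_ * ((χ : G → ℂ) ((D.y 1 ^ (i : ℕ) * k : D.H) : G) * _))
    ring
  have hw0 : w ≠ 0 := fun e => by rw [e] at hw; norm_num at hw
  have hwc : conj w * w = 1 := by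
    rw [← Complex.normSq_eq_conj_mul_self, Complex.normSq_eq_norm_sq,
      Complex.norm_eq_one_of_pow_eq_one hw (by norm_num)]
    norm_num
  have hwc2 : conj w = w ^ 2 := by
    calc conj w = conj w * w ^ 3 := by rw [hw, mul_one]
      _ = conj w * w * w ^ 2 := by ring
      _ = w ^ 2 := by rw [hwc, one_mul]
  obtain ⟨n, hn⟩ := key (Units.mk0 w hw0) (Units.ext (by
    simp only [Units.val_pow_eq_pow_val, Units.val_mk0, Units.val_one]; rw [show w ^ 6 = (w ^ 3) ^ 2 by ring, hw, one_pow]))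
  obtain ⟨n', hn'⟩ := key (Units.mk0 (-w) (neg_ne_zero.2 hw0)) (Units.ext (by
    simp only [Units.val_pow_eq_pow_val, Units.val_mk0, Units.val_one]; rw [show (-w) ^ 6 = (w ^ 3) ^ 2 by ring, hw, one_pow]))
  refine ⟨(n : ℤ) - n', ?_⟩
  have h3 : D.avg (χ : G → ℂ) (D.y 1 ^ 3) = D.avg (χ : G → ℂ) (D.y 0) := by
    refine D.avg_congr _ ?_
    rw [D.y_zero, y, pow_one, (D.T_comm D.b).mul_pow, pow_succ D.T, pow_two, D.T_sq, one_mul,
      inv_mul_cancel_left]
    exact D.b_cube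
  have h5 : D.avg (χ : G → ℂ) (D.y 1 ^ 5) = D.avg (χ : G → ℂ) (D.y 2) := by
    refine D.avg_congr _ ?_
    have hT : D.T ^ 5 = D.T := by
      rw [show 5 = 2 * 2 + 1 from rfl, pow_succ, pow_mul, pow_two D.T, D.T_sq, one_pow, one_mul]
    rw [y, y, pow_one, (D.T_comm D.b).mul_pow, hT, mul_inv_rev, mul_assoc, inv_mul_cancel_left,
      show (D.b ^ 2)⁻¹ * D.b ^ 5 = D.b ^ 3 by group]
    exact D.b_cube
  simp only [Fin.sum_univ_six, Units.val_mk0] at hn hn'
  norm_num at hn hn'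
  rw [h3, h5] at hn hn'
  have hc3 : conj w ^ 3 = 1 := by rw [← map_pow, hw, map_one]
  have hc5 : conj w ^ 5 = w := by
    rw [show conj w ^ 5 = conj w ^ 3 * conj w ^ 2 by ring, hc3, one_mul, hwc2, ← pow_mul,
      show w ^ (2 * 2) = w ^ 3 * w by ring, hw, one_mul]
  push_cast
  rw [← hn, ← hn']
  linear_combination (-(D.avg (χ : G → ℂ) (D.y 0)) / 3) * hc3 + (-(D.avg (χ : G → ℂ) (D.y 2)) / 3) * hc5

theorem conj_A (χ : IrrCharacter G) :
    conj (D.avg (χ : G → ℂ) (D.y 0)) = D.avg (χ : G → ℂ) (D.y 0) := by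
  rw [conj_avg, avg_y0_inv]

theorem conj_B (χ : IrrCharacter G) :
    conj (D.avg (χ : G → ℂ) (D.y 1)) = D.avg (χ : G → ℂ) (D.y 2) := by
  rw [conj_avg, avg_y1_inv]

theorem conj_B' (χ : IrrCharacter G) :
    conj (D.avg (χ : G → ℂ) (D.y 2)) = D.avg (χ : G → ℂ) (D.y 1) := by
  rw [← conj_B, Complex.conj_conj]

theorem avg_conjIrr (χ : IrrCharacter G) (y : D.H) :
    D.avg (conjIrr χ : G → ℂ) y = conj (D.avg (χ : G → ℂ) y) := by
  simp only [avg, map_mul, map_inv₀, map_natCast, map_sum, conjIrr_apply]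

/-- The inner product of two combinations of the columns. -/
theorem sum_comb (a0 a1 a2 b0 b1 b2 : ℂ) :
    ∑ χ : IrrCharacter G,
      (a0 * D.avg (χ : G → ℂ) (D.y 0) + a1 * D.avg (χ : G → ℂ) (D.y 1) + a2 * D.avg (χ : G → ℂ) (D.y 2)) *
      (b0 * D.avg (χ : G → ℂ) (D.y 0) + b1 * D.avg (χ : G → ℂ) (D.y 1) + b2 * D.avg (χ : G → ℂ) (D.y 2)) =
      24 * (a0 * b0) + 6 * (a1 * b2 + a2 * b1) := by
  have hO := D.card_O_ne
  have h00 := D.sum_avg_mul_conj 0 0
  have h01 := D.sum_avg_mul_conj 0 1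
  have h02 := D.sum_avg_mul_conj 0 2
  have h11 := D.sum_avg_mul_conj 1 1
  have h12 := D.sum_avg_mul_conj 1 2
  have h21 := D.sum_avg_mul_conj 2 1
  rw [D.count_zero] at h00
  rw [D.count_self le_rfl (by norm_num)] at h11
  rw [D.count_ne (by norm_num) (by norm_num) (by norm_num)] at h01 h02 h12 h21
  simp only [conj_A, conj_B, conj_B'] at h00 h01 h02 h11 h12 h21
  push_cast at h00 h11
  simp only [Nat.cast_zero, zero_div] at h01 h02 h12 h21
  rw [mul_div_cancel_right₀ _ hO] at h00 h11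
  rw [Finset.sum_congr rfl fun (χ : IrrCharacter G) _ => show
    (a0 * D.avg (χ : G → ℂ) (D.y 0) + a1 * D.avg (χ : G → ℂ) (D.y 1) + a2 * D.avg (χ : G → ℂ) (D.y 2)) *
      (b0 * D.avg (χ : G → ℂ) (D.y 0) + b1 * D.avg (χ : G → ℂ) (D.y 1) + b2 * D.avg (χ : G → ℂ) (D.y 2)) =
      a0 * b0 * (D.avg (χ : G → ℂ) (D.y 0) * D.avg (χ : G → ℂ) (D.y 0)) +
      (a0 * b1 + a1 * b0) * (D.avg (χ : G → ℂ) (D.y 0) * D.avg (χ : G → ℂ) (D.y 1)) +
      (a0 * b2 + a2 * b0) * (D.avg (χ : G → ℂ) (D.y 0) * D.avg (χ : G → ℂ) (D.y 2)) +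
      (a1 * b2 + a2 * b1) * (D.avg (χ : G → ℂ) (D.y 1) * D.avg (χ : G → ℂ) (D.y 2)) +
      a1 * b1 * (D.avg (χ : G → ℂ) (D.y 1) * D.avg (χ : G → ℂ) (D.y 1)) +
      a2 * b2 * (D.avg (χ : G → ℂ) (D.y 2) * D.avg (χ : G → ℂ) (D.y 2)) by ring]
  simp only [Finset.sum_add_distrib, ← Finset.mul_sum]
  rw [h00, h01, h02, h11, h12, h21]
  ring

theorem eq_one_of_degree_one [IsSimpleGroup G] (hG : ¬ IsMulCommutative G) (χ : IrrCharacter G)
    (h : (χ : G → ℂ) 1 = 1) : χ = oneIrr G := by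
  obtain ⟨φ, hφ⟩ := exists_hom_of_degree_one (isCharacter_of_irr χ.2) h
  rcases IsSimpleGroup.eq_bot_or_eq_top_of_normal φ.ker inferInstance with hk | hk
  · exact absurd ⟨⟨fun a b => (MonoidHom.ker_eq_bot_iff φ).1 hk
      (by rw [map_mul, map_mul, mul_comm])⟩⟩ hG
  · refine Subtype.ext (hφ.trans (funext fun g => ?_))
    show ((φ g : ℂˣ) : ℂ) = 1
    rw [MonoidHom.mem_ker.1 (hk ▸ Subgroup.mem_top g), Units.val_one]

theorem exists_nat_sylow (χ : IrrCharacter G) :
    ∃ n : ℕ, (χ : G → ℂ) 1 + 7 * (χ : G → ℂ) D.t = 8 * (n : ℂ) := by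
  classical
  obtain ⟨n, hn⟩ := classInner_char_nat (isCharacter_restrict_irr (D.S : Subgroup G) χ) isCharacter_one
  refine ⟨n, ?_⟩
  rw [← hn, classInner, D.card8]
  simp only [map_one, mul_one]
  rw [← Finset.add_sum_erase _ _ (Finset.mem_univ (1 : (D.S : Subgroup G)))]
  rw [Finset.sum_congr rfl fun (s : (D.S : Subgroup G)) hs => show (χ : G → ℂ) s = (χ : G → ℂ) D.t by
    have hs1 : (s : G) ≠ 1 := fun e => (Finset.ne_of_mem_erase hs) (Subtype.ext e)
    obtain ⟨c, hc⟩ := D.conj_invol s (orderOf_eq_prime (by rw [pow_two]; exact D.sq s s.2) hs1)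
    rw [← hc]; exact irr_isClassFun χ D.t c]
  rw [Finset.sum_const, Finset.card_erase_of_mem (Finset.mem_univ _), Finset.card_univ,
    ← Nat.card_eq_fintype_card, D.card8]
  simp only [OneMemClass.coe_one, nsmul_eq_mul]
  push_cast
  ring

/-- The configuration does not occur. -/
theorem false [IsSimpleGroup G] (hG : ¬ IsMulCommutative G) (D : Data G) : False := by
  classical
  obtain ⟨M, hM⟩ := ZStar.exists_isPModular Nat.prime_two
  have hprim := Complex.isPrimitiveRoot_exp 3 (by norm_num)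
  set ω : ℂ := Complex.exp (2 * Real.pi * Complex.I / (3 : ℕ)) with hωdef
  have hω3 : ω ^ 3 = 1 := hprim.pow_eq_one
  have hω12 : 1 + ω + ω ^ 2 = 0 := by
    have h := hprim.geom_sum_eq_zero (by norm_num)
    simp only [Finset.sum_range_succ, Finset.sum_range_zero, pow_zero, pow_one, zero_add] at h
    exact h
  have hωc : conj ω = ω ^ 2 := by
    have h : conj ω * ω = 1 := by
      rw [← Complex.normSq_eq_conj_mul_self, Complex.normSq_eq_norm_sq,
        Complex.norm_eq_one_of_pow_eq_one hω3 (by norm_num)]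
      norm_num
    calc conj ω = conj ω * ω ^ 3 := by rw [hω3, mul_one]
      _ = conj ω * ω * ω ^ 2 := by ring
      _ = ω ^ 2 := by rw [h, one_mul]
  choose M0 hM0 using fun χ : IrrCharacter G => D.exists_int_mult χ (w := 1) (one_pow 3)
  choose M1 hM1 using fun χ : IrrCharacter G => D.exists_int_mult χ hω3
  set A := fun χ : IrrCharacter G => D.avg (χ : G → ℂ) (D.y 0) with hA
  set B := fun χ : IrrCharacter G => D.avg (χ : G → ℂ) (D.y 1) with hB
  set B' := fun χ : IrrCharacter G => D.avg (χ : G → ℂ) (D.y 2) with hB'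
  have e0 : ∀ χ, (M0 χ : ℂ) = 1 / 3 * A χ + 1 / 3 * B χ + 1 / 3 * B' χ := fun χ => by
    rw [← hM0 χ, map_one]; simp only [hA, hB, hB']; ring
  have e1 : ∀ χ, (M1 χ : ℂ) = 1 / 3 * A χ + ω ^ 2 / 3 * B χ + ω / 3 * B' χ := fun χ => by
    rw [← hM1 χ, hωc]; simp only [hA, hB, hB']; ring
  let σ : IrrCharacter G → IrrCharacter G := conjIrr
  have hσσ : ∀ χ, σ (σ χ) = χ := fun χ => Subtype.ext (funext fun g => Complex.conj_conj _)
  have hσA : ∀ χ, A (σ χ) = A χ := fun χ => by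
    simp only [hA, σ, avg_conjIrr, conj_A]
  have hσB : ∀ χ, B (σ χ) = B' χ := fun χ => by
    simp only [hB, hB', σ, avg_conjIrr, conj_B]
  have hσB' : ∀ χ, B' (σ χ) = B χ := fun χ => by
    simp only [hB, hB', σ, avg_conjIrr, conj_B']
  have e2 : ∀ χ, (M1 (σ χ) : ℂ) = 1 / 3 * A χ + ω / 3 * B χ + ω ^ 2 / 3 * B' χ := fun χ => by
    rw [e1, hσA, hσB, hσB']; ring
  have ev : ∀ χ, ((M0 χ + M1 χ + M1 (σ χ) : ℤ) : ℂ) = A χ := fun χ => by
    push_cast
    rw [e0, e1, e2]
    linear_combination (B χ / 3 + B' χ / 3) * hω12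
  -- the principal block
  have hyb : ¬ 2 ∣ orderOf (1 : D.H) := by rw [orderOf_one]; norm_num
  have hsupp : ∀ χ, M0 χ ≠ 0 ∨ M1 χ ≠ 0 → A χ = (χ : G → ℂ) D.t := by
    intro χ hne
    have h0 := D.principal_avg hM χ hyb
    have h1 := D.principal_avg hM χ D.b_odd
    rw [show D.T * 1 = D.y 0 by rw [D.y_zero, mul_one]] at h0
    rw [show D.T * D.b = D.y 1 by rw [y, pow_one]] at h1
    by_cases hχ : χ ∈ principalBlock M G
    · rw [ind_of_mem hχ, one_mul] at h0
      show D.avg (χ : G → ℂ) (D.y 0) = _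
      rw [h0, D.y_zero]
      rfl
    · rw [ind_of_notMem hχ, zero_mul] at h0 h1
      have h2 : B' χ = 0 := by
        show D.avg (χ : G → ℂ) (D.y 2) = 0
        rw [← conj_B, h1, map_zero]
      have z0 : M0 χ = 0 := by
        have h := e0 χ
        rw [show A χ = 0 from h0, show B χ = 0 from h1, h2] at h
        exact_mod_cast (h.trans (by ring) : (M0 χ : ℂ) = 0)
      have z1 : M1 χ = 0 := by
        have h := e1 χ
        rw [show A χ = 0 from h0, show B χ = 0 from h1, h2] at h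
        exact_mod_cast (h.trans (by ring) : (M1 χ : ℂ) = 0)
      rcases hne with h | h
      exacts [absurd z0 h, absurd z1 h]
  have hdeg : ∀ χ : IrrCharacter G, (χ : G → ℂ) 1 = (charDegree (χ : G → ℂ) : ℂ) := fun χ =>
    (irr_charDegree_cast χ).symm
  have hone : ((oneIrr G : IrrCharacter G) : G → ℂ) = fun _ => 1 := rfl
  refine Cols.false
    { m0 := M0, m1 := M1, D := fun χ => charDegree (χ : G → ℂ), e := oneIrr G, σ := σ
      σσ := hσσ
      σe := Subtype.ext (funext fun g => by show conj (1 : ℂ) = 1; exact map_one _)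
      m0σ := fun χ => Int.cast_injective (α := ℂ) (by rw [e0, e0, hσA, hσB, hσB']; ring)
      Dσ := fun χ => Nat.cast_injective (R := ℂ) (by
        rw [← hdeg, ← hdeg]
        exact irr_one_conj χ)
      m0e := Int.cast_injective (α := ℂ) (by
        rw [e0]; simp only [hA, hB, hB', hone, avg_one]; push_cast; ring)
      m1e := Int.cast_injective (α := ℂ) (by
        rw [e1]; simp only [hA, hB, hB', hone, avg_one]; push_cast; linear_combination hω12 / 3)
      De := Nat.cast_injective (R := ℂ) (by rw [← hdeg, hone, Nat.cast_one])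
      Dpos := fun χ => irr_charDegree_pos χ
      D1 := fun χ h => eq_one_of_degree_one hG χ (by
        rw [hdeg, show charDegree (χ : G → ℂ) = 1 from h, Nat.cast_one])
      h00 := Int.cast_injective (α := ℂ) (by
        push_cast
        simp only [e0]
        rw [D.sum_comb]; ring)
      h11 := Int.cast_injective (α := ℂ) (by
        push_cast
        simp only [e1]
        rw [D.sum_comb]; linear_combination 4 / 3 * hω3)
      h01 := Int.cast_injective (α := ℂ) (by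
        push_cast
        simp only [e0, e1]
        rw [D.sum_comb]; linear_combination 2 / 3 * hω12)
      h12 := Int.cast_injective (α := ℂ) (by
        push_cast
        simp only [e2, e1]
        rw [D.sum_comb]; linear_combination (2 / 3 * ω) * hω3 + 2 / 3 * hω12)
      d0 := Int.cast_injective (α := ℂ) (by
        push_cast
        rw [Finset.sum_congr rfl fun (χ : IrrCharacter G) _ => show
          (charDegree (χ : G → ℂ) : ℂ) * (M0 χ : ℂ) = 1 / 3 * ((χ : G → ℂ) 1 * A χ) +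
            1 / 3 * ((χ : G → ℂ) 1 * B χ) + 1 / 3 * ((χ : G → ℂ) 1 * B' χ) by rw [e0, hdeg]; ring]
        simp only [hA, hB, hB', Finset.sum_add_distrib, ← Finset.mul_sum, D.sum_degree_avg]
        ring)
      d1 := Int.cast_injective (α := ℂ) (by
        push_cast
        rw [Finset.sum_congr rfl fun (χ : IrrCharacter G) _ => show
          (charDegree (χ : G → ℂ) : ℂ) * (M1 χ : ℂ) = 1 / 3 * ((χ : G → ℂ) 1 * A χ) +
            ω ^ 2 / 3 * ((χ : G → ℂ) 1 * B χ) + ω / 3 * ((χ : G → ℂ) 1 * B' χ) by rw [e1, hdeg]; ring]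
        simp only [hA, hB, hB', Finset.sum_add_distrib, ← Finset.mul_sum, D.sum_degree_avg]
        ring)
      div := fun χ hne => ?_
      hv := ?_ }
  · obtain ⟨n, hn⟩ := D.exists_nat_sylow χ
    rw [← hsupp χ hne, ← ev, hdeg] at hn
    have h : (charDegree (χ : G → ℂ) : ℤ) + 7 * (M0 χ + M1 χ + M1 (σ χ)) = 8 * (n : ℤ) := by
      exact_mod_cast hn
    exact ⟨⟨(n : ℤ), h⟩, by omega⟩
  · refine (Rat.cast_injective (α := ℂ)) ?_
    push_cast
    have key : ∀ χ : IrrCharacter G, ((M0 χ : ℂ) + M1 χ + M1 (σ χ)) ^ 2 * ((M0 χ : ℂ) - M1 χ) /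
        (charDegree (χ : G → ℂ) : ℂ) =
        (1 / 3 - ω ^ 2 / 3) * ((χ : G → ℂ) D.t * ((χ : G → ℂ) D.t / (χ : G → ℂ) 1) * conj (B' χ)) +
        (1 / 3 - ω / 3) * ((χ : G → ℂ) D.t * ((χ : G → ℂ) D.t / (χ : G → ℂ) 1) * conj (B χ)) := by
      intro χ
      have hdiff : (M0 χ : ℂ) - M1 χ = (1 / 3 - ω ^ 2 / 3) * B χ + (1 / 3 - ω / 3) * B' χ := by
        rw [e0, e1]; ring
      rw [show conj (B' χ) = B χ from D.conj_B' χ, show conj (B χ) = B' χ from D.conj_B χ, hdeg]
      by_cases hne : M0 χ ≠ 0 ∨ M1 χ ≠ 0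
      · have h := ev χ
        push_cast at h
        rw [h, hsupp χ hne, hdiff]; ring
      · push Not at hne
        rw [hne.1, hne.2] at hdiff ⊢
        push_cast at hdiff ⊢
        linear_combination ((χ : G → ℂ) D.t * ((χ : G → ℂ) D.t / (charDegree (χ : G → ℂ) : ℂ))) * hdiff
    rw [Finset.sum_congr rfl fun χ _ => key χ, Finset.sum_add_distrib, ← Finset.mul_sum, ← Finset.mul_sum,
      D.sum_sq_avg le_rfl (by norm_num), D.sum_sq_avg (by norm_num) (by norm_num)]
    ring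

end Data

end CfsgLib.E8Solv
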