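import Cfsg.Agent.S0018
import Cfsg.Agent.Lib.AbelianSylowInvolutions
import Cfsg.Agent.Lib.Blocks.Sections

/-!
# Solvable centralisers of involutions over an elementary abelian Sylow subgroup of order eight

If the automiser of such a Sylow subgroup in a simple group does not have order `7`, the centraliser of an
involution `t` is `O (S ⋊ ⟨b⟩)` with `O` odd and normal, `b ^ 3 ∈ O` and `C_S(b) = ⟨t⟩`.
-/

namespace CfsgLib.E8Solv

open Cfsg CfsgLib CfsgLib.Blocks

set_option autoImplicit false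
set_option linter.style.haveILetI false
set_option linter.unusedSectionVars false

universe u

variable {G : Type u} [Group G] [Finite G]

theorem mem_zpowers_invol {t x : G} (ht : orderOf t = 2) :
    x ∈ Subgroup.zpowers t ↔ x = 1 ∨ x = t := by
  constructor
  · rintro ⟨i, rfl⟩
    show t ^ i = 1 ∨ t ^ i = t
    rw [← zpow_mod_orderOf, ht]
    rcases Int.emod_two_eq_zero_or_one i with h | h <;> simp [h]
  · rintro (rfl | rfl)
    exacts [one_mem _, Subgroup.mem_zpowers _]

/-- An element of `2`-power order normalising a Sylow `2`-subgroup lies in it. -/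
theorem mem_sylow_of_normalizes (S : Sylow 2 G) {z : G} (hz : ∃ k, orderOf z = 2 ^ k)
    (hn : z ∈ Subgroup.normalizer ((S : Subgroup G) : Set G)) : z ∈ (S : Subgroup G) := by
  obtain ⟨k, hk⟩ := hz
  have hp : IsPGroup 2 (Subgroup.zpowers z) := IsPGroup.of_card (n := k) (by rw [Nat.card_zpowers, hk])
  have hsup := hp.to_sup_of_normal_right' S.2 (Subgroup.zpowers_le.2 hn)
  exact (S.3 hsup le_sup_right).le (Subgroup.mem_sup_left (Subgroup.mem_zpowers z))

/-- The normaliser of an elementary abelian Sylow subgroup of order eight is transitive on its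
involutions when there is no subgroup of index two. -/
theorem transitive (h2 : ∀ H : Subgroup G, H.index ≠ 2) (S : Sylow 2 G)
    [IsMulCommutative (S : Subgroup G)] (h8 : Nat.card (S : Subgroup G) = 8) :
    ∀ a ∈ (S : Subgroup G), ∀ b ∈ (S : Subgroup G), a ≠ 1 → b ≠ 1 →
      ∃ n ∈ Subgroup.normalizer ((S : Subgroup G) : Set G), n * a * n⁻¹ = b := by
  classical
  haveI := Fintype.ofFinite G
  haveI : Fact (Nat.Prime 2) := ⟨Nat.prime_two⟩
  set N := Subgroup.normalizer ((S : Subgroup G) : Set G) with hNdef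
  set A : Finset G := Finset.univ.filter fun x => x ∈ (S : Subgroup G) ∧ x ≠ 1 with hA
  have hA7 : A.card = 7 := by
    have h8' : (Finset.univ.filter fun x => x ∈ (S : Subgroup G)).card = 8 := by
      rw [← Fintype.card_subtype, ← Nat.card_eq_fintype_card]
      exact h8
    have : A = (Finset.univ.filter fun x => x ∈ (S : Subgroup G)).erase 1 := by
      ext x; simp [hA, and_comm]
    rw [this, Finset.card_erase_of_mem (by simp), h8']
  set O : G → Finset G := fun a => Finset.univ.filter fun x => ∃ n ∈ N, n * a * n⁻¹ = x with hO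
  have hmem : ∀ {a x}, x ∈ O a ↔ ∃ n ∈ N, n * a * n⁻¹ = x := by simp [hO]
  have hsub : ∀ a ∈ A, O a ⊆ A := by
    intro a ha x hx
    obtain ⟨n, hn, rfl⟩ := hmem.1 hx
    simp only [hA, Finset.mem_filter, Finset.mem_univ, true_and] at ha ⊢
    exact ⟨(Subgroup.mem_normalizer_iff.1 hn a).1 ha.1, fun e => ha.2 (conj_eq_one_iff.1 e)⟩
  have hself : ∀ a, a ∈ O a := fun a => hmem.2 ⟨1, one_mem _, by simp⟩
  have hdisj : ∀ a b, b ∉ O a → Disjoint (O a) (O b) := by
    intro a b hb
    rw [Finset.disjoint_left]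
    intro x hxa hxb
    obtain ⟨n, hn, rfl⟩ := hmem.1 hxa
    obtain ⟨n', hn', e⟩ := hmem.1 hxb
    exact hb (hmem.2 ⟨n'⁻¹ * n, mul_mem (inv_mem hn') hn, by
      rw [show n'⁻¹ * n * a * (n'⁻¹ * n)⁻¹ = n'⁻¹ * (n * a * n⁻¹) * n' by group, ← e]; group⟩)
  have hcard : ∀ a ∈ A, Odd (O a).card ∧ 3 ≤ (O a).card := by
    intro a ha
    have ha' : a ∈ (S : Subgroup G) ∧ a ≠ 1 := by simpa [hA] using ha
    letI act : MulAction N G := MulAction.compHom G ((MulAut.conj : G →* MulAut G).comp N.subtype)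
    have hsm : ∀ (n : N) (x : G), n • x = (n : G) * x * (n : G)⁻¹ := fun n x => rfl
    have horb : (O a).card = (MulAction.stabilizer N a).index := by
      rw [MulAction.index_stabilizer, ← Set.ncard_coe_finset]
      congr 1
      ext x
      simp only [Finset.mem_coe, hmem, MulAction.mem_orbit_iff, Subtype.exists, hsm, exists_prop]
    have hS : (S : Subgroup G).subgroupOf N ≤ MulAction.stabilizer N a := fun n hn => by
      rw [MulAction.mem_stabilizer_iff, hsm,
        Subgroup.mul_comm_of_mem_isMulCommutative (S : Subgroup G)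
          (show (n : G) ∈ (S : Subgroup G) from hn) ha'.1, mul_inv_cancel_right]
    have hdd : (O a).card ∣ ((S : Subgroup G).subgroupOf N).index := horb ▸ Subgroup.index_dvd_of_le hS
    have hodd : ¬ 2 ∣ (O a).card := fun h => S.not_dvd_index
      ((h.trans hdd).trans (Subgroup.relIndex_dvd_index_of_le Subgroup.le_normalizer))
    refine ⟨Nat.odd_iff.2 (Nat.two_dvd_ne_zero.1 hodd), ?_⟩
    by_contra h3
    have h1 : (O a).card = 1 := by
      have := Finset.card_pos.2 ⟨a, hself a⟩
      omega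
    obtain ⟨H, hH⟩ := AbelianInvolutions.exists_index_two_of_fixed S ha'.1 ha'.2 fun n hn => by
      have := Finset.card_le_one.1 h1.le _ (hmem.2 ⟨n, hn, rfl⟩) _ (hself a)
      calc n * a = n * a * n⁻¹ * n := by group
        _ = a * n := by rw [this]
    exact h2 H hH
  have hall : ∀ a ∈ A, O a = A := by
    intro a ha
    by_contra hne
    obtain ⟨b, hbA, hb⟩ := Finset.not_subset.1 fun h => hne (Finset.Subset.antisymm (hsub a ha) h)
    obtain ⟨hoa, h3a⟩ := hcard a ha
    obtain ⟨hob, h3b⟩ := hcard b hbA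
    have hd := hdisj a b hb
    have hu := Finset.card_union_of_disjoint hd
    have hev : (O a ∪ O b).card ≠ 7 := by
      obtain ⟨i, hi⟩ := hoa; obtain ⟨j, hj⟩ := hob
      omega
    obtain ⟨c, hcA, hc⟩ := Finset.not_subset.1 fun h : A ⊆ O a ∪ O b => hev (by
      rw [← hA7, Finset.Subset.antisymm (Finset.union_subset (hsub a ha) (hsub b hbA)) h])
    obtain ⟨-, h3c⟩ := hcard c hcA
    rw [Finset.mem_union, not_or] at hc
    have hd' : Disjoint (O a ∪ O b) (O c) :=
      Finset.disjoint_union_left.2 ⟨hdisj a c hc.1, hdisj b c hc.2⟩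
    have hu' := Finset.card_union_of_disjoint hd'
    have := Finset.card_le_card
      (Finset.union_subset (Finset.union_subset (hsub a ha) (hsub b hbA)) (hsub c hcA))
    omega
  intro a ha b hb ha1 hb1
  exact hmem.1 ((hall a (by simp [hA, ha, ha1])).ge (by simp [hA, hb, hb1]))

/-- The configuration to be refuted. -/
structure Data (G : Type u) [Group G] where
  S : Sylow 2 G
  t : G
  sq : ∀ s ∈ (S : Subgroup G), s * s = 1
  card8 : Nat.card (S : Subgroup G) = 8
  order_t : orderOf t = 2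
  t_mem : t ∈ (S : Subgroup G)
  conj_invol : ∀ u : G, orderOf u = 2 → ∃ c : G, c * t * c⁻¹ = u
  b : Subgroup.centralizer ({t} : Set G)
  b_odd : ¬ 2 ∣ orderOf b
  b_norm : ∀ s ∈ (S : Subgroup G), (b : G) * s * (b : G)⁻¹ ∈ (S : Subgroup G)
  b_fix : ∀ s ∈ (S : Subgroup G), (b : G) * s = s * b → s = 1 ∨ s = t
  O : Subgroup (Subgroup.centralizer ({t} : Set G))
  O_normal : O.Normal
  O_odd : ¬ 2 ∣ Nat.card O
  b_cube : b ^ 3 ∈ O
  decomp : ∀ h, ∃ s : Subgroup.centralizer ({t} : Set G), (s : G) ∈ (S : Subgroup G) ∧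
    ∃ i < 3, ∃ k ∈ O, h = s * b ^ i * k
  constrained : O = pPrimeCore 2 (Subgroup.centralizer ({t} : Set G))
  solvable : Group.IsSolvable (Subgroup.centralizer ({t} : Set G))

/-- Local analysis. -/
theorem seven_or_data [IsSimpleGroup G] (hG : ¬ IsMulCommutative G) (S : Sylow 2 G)
    (hS : IsElementaryAbelian 2 (S : Subgroup G)) (h8 : Nat.card (S : Subgroup G) = 8)
    (hC : ∀ t : G, orderOf t = 2 → Group.IsSolvable (Subgroup.centralizer ({t} : Set G))) :
    (Subgroup.centralizer ((S : Subgroup G) : Set G)).relIndex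
      (Subgroup.normalizer ((S : Subgroup G) : Set G)) = 7 ∨ Nonempty (Data G) := by
  classical
  haveI : Fact (Nat.Prime 2) := ⟨Nat.prime_two⟩
  haveI : IsMulCommutative (S : Subgroup G) := hS.1
  have hsq : ∀ s ∈ (S : Subgroup G), s * s = 1 := fun s hs => by
    rw [← sq]; exact hS.2 s hs
  have hord : ∀ s ∈ (S : Subgroup G), s ≠ 1 → orderOf s = 2 := fun s hs h1 =>
    orderOf_eq_prime (hS.2 s hs) h1
  have h2 : ∀ H : Subgroup G, H.index ≠ 2 := by
    intro H hH
    haveI : H.Normal := Subgroup.normal_of_index_eq_two hH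
    rcases IsSimpleGroup.eq_bot_or_eq_top_of_normal H inferInstance with rfl | rfl
    · rw [Subgroup.index_bot] at hH
      haveI : IsCyclic G := isCyclic_of_prime_card (p := 2) hH
      exact hG ⟨⟨fun a b => (IsCyclic.commGroup (α := G)).mul_comm a b⟩⟩
    · rw [Subgroup.index_top] at hH; omega
  have htr := transitive h2 S h8
  set N := Subgroup.normalizer ((S : Subgroup G) : Set G) with hNdef
  set C := Subgroup.centralizer ((S : Subgroup G) : Set G) with hCdef
  have hSC : (S : Subgroup G) ≤ C := fun s hs => Subgroup.mem_centralizer_iff.2 fun x hx =>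
    Subgroup.mul_comm_of_mem_isMulCommutative (S : Subgroup G) hx hs
  haveI : Nontrivial (S : Subgroup G) := Finite.one_lt_card_iff_nontrivial.1 (by rw [h8]; norm_num)
  obtain ⟨⟨t, htS⟩, ht1'⟩ := exists_ne (1 : (S : Subgroup G))
  have ht1 : t ≠ 1 := fun e => ht1' (Subtype.ext e)
  have ht := hord t htS ht1
  letI act : MulAction N G := MulAction.compHom G ((MulAut.conj : G →* MulAut G).comp N.subtype)
  have hsm : ∀ (n : N) (x : G), n • x = (n : G) * x * (n : G)⁻¹ := fun n x => rfl
  have hnS : ∀ {n : G}, n ∈ N → ∀ {s : G}, s ∈ (S : Subgroup G) → n * s * n⁻¹ ∈ (S : Subgroup G) :=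
    fun hn s hs => (Subgroup.mem_normalizer_iff.1 hn s).1 hs
  by_cases hstab : MulAction.stabilizer N t ≤ C.subgroupOf N
  · left
    have he : C.subgroupOf N = MulAction.stabilizer N t := by
      refine le_antisymm (fun n hn => ?_) hstab
      have h : (n : G) * t = t * n := (Subgroup.mem_centralizer_iff.1 (show (n : G) ∈ C from hn) t htS).symm
      rw [MulAction.mem_stabilizer_iff, hsm, h, mul_inv_cancel_right]
    rw [Subgroup.relIndex, he, MulAction.index_stabilizer]
    have horb : MulAction.orbit N t = ((S : Subgroup G) : Set G) \ {1} := by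
      ext x
      constructor
      · rintro ⟨n, rfl⟩
        show n • t ∈ _
        rw [hsm]
        exact ⟨hnS n.2 htS, fun e => ht1 (conj_eq_one_iff.1 e)⟩
      · rintro ⟨hx, hx1⟩
        obtain ⟨n, hn, e⟩ := htr t htS x hx ht1 hx1
        exact ⟨⟨n, hn⟩, e⟩
    rw [horb, Set.ncard_diff_singleton_of_mem (one_mem _), ← Nat.card_coe_set_eq,
      show Nat.card ((S : Subgroup G) : Set G) = 8 from h8]
  right
  obtain ⟨⟨n, hnN⟩, hnt, hnC⟩ := SetLike.not_le_iff_exists.1 hstab
  rw [MulAction.mem_stabilizer_iff, hsm] at hnt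
  change n * t * n⁻¹ = t at hnt
  change n ∉ C at hnC
  set H := Subgroup.centralizer ({t} : Set G) with hH
  haveI : Group.IsSolvable H := hC t ht
  have hSH : (S : Subgroup G) ≤ H := fun s hs => Subgroup.mem_centralizer_singleton_iff.2
    (Subgroup.mul_comm_of_mem_isMulCommutative (S : Subgroup G) hs htS)
  -- the action on the cosets of `⟨t⟩` in `S`
  let K : Subgroup (S : Subgroup G) := (Subgroup.zpowers t).subgroupOf (S : Subgroup G)
  let St : Subgroup G := N ⊓ H
  have hKmem : ∀ {x y : (S : Subgroup G)},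
      QuotientGroup.leftRel K x y ↔ (y : G) = x ∨ (y : G) = x * t := by
    intro x y
    rw [QuotientGroup.leftRel_apply, Subgroup.mem_subgroupOf, mem_zpowers_invol ht]
    simp only [Subgroup.coe_mul, Subgroup.coe_inv]
    rw [inv_mul_eq_one, inv_mul_eq_iff_eq_mul, eq_comm]
  have hcomm_t : ∀ {m : G}, m ∈ H → m * t = t * m := fun hm =>
    Subgroup.mem_centralizer_singleton_iff.1 hm
  let f : ∀ m : St, (S : Subgroup G) ⧸ K → (S : Subgroup G) ⧸ K := fun m =>
    Quotient.map' (fun s => ⟨(m : G) * s * (m : G)⁻¹, hnS m.2.1 s.2⟩) fun x y hxy => by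
      rw [hKmem] at hxy ⊢
      rcases hxy with e | e
      · exact Or.inl (by simp [e])
      · refine Or.inr ?_
        simp only [e]
        calc (m : G) * (x * t) * (m : G)⁻¹ = (m : G) * x * (m : G)⁻¹ * ((m : G) * t) * (m : G)⁻¹ := by
              group
          _ = (m : G) * x * (m : G)⁻¹ * t := by rw [hcomm_t m.2.2]; group
  have f_mk : ∀ (m : St) (s : (S : Subgroup G)), f m (s : (S : Subgroup G) ⧸ K) =
      ((⟨(m : G) * s * (m : G)⁻¹, hnS m.2.1 s.2⟩ : (S : Subgroup G)) : (S : Subgroup G) ⧸ K) :=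
    fun m s => rfl
  letI aQ : MulAction St ((S : Subgroup G) ⧸ K) :=
    { smul := f
      one_smul := fun q => QuotientGroup.induction_on q fun s => by
        show f 1 _ = _
        rw [f_mk]; congr 1; ext; simp
      mul_smul := fun m m' q => QuotientGroup.induction_on q fun s => by
        show f (m * m') _ = f m (f m' _)
        rw [f_mk, f_mk, f_mk]; congr 1; ext; simp [mul_assoc] }
  let ψ : St →* Equiv.Perm ((S : Subgroup G) ⧸ K) := MulAction.toPermHom St _
  have hψ : ∀ m : St, ψ m = 1 → ∀ s ∈ (S : Subgroup G),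
      (m : G) * s * (m : G)⁻¹ = s ∨ (m : G) * s * (m : G)⁻¹ = s * t := by
    intro m hm s hs
    have := Equiv.ext_iff.1 hm ((⟨s, hs⟩ : (S : Subgroup G)) : (S : Subgroup G) ⧸ K)
    rw [show ψ m _ = f m _ from rfl, f_mk, Equiv.Perm.one_apply] at this
    have h := QuotientGroup.eq.1 this.symm
    rw [← QuotientGroup.leftRel_apply, hKmem] at h
    exact h
  -- a kernel element centralises `S`
  have hker : ∀ m : St, ψ m = 1 → (m : G) ∈ C := by
    intro m hm
    have h2C : (m : G) * m ∈ C := by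
      refine Subgroup.mem_centralizer_iff.2 fun s hs => ?_
      have key : (m : G) * ((m : G) * s * (m : G)⁻¹) * (m : G)⁻¹ = s := by
        rcases hψ m hm s hs with e | e
        · rw [e, e]
        · rw [e]
          calc (m : G) * (s * t) * (m : G)⁻¹ = (m : G) * s * (m : G)⁻¹ * ((m : G) * t * (m : G)⁻¹) := by
                group
            _ = s * t * t := by rw [e, hcomm_t m.2.2]; group
            _ = s := by rw [mul_assoc, hsq t htS, mul_one]
      calc s * ((m : G) * m) = (m : G) * ((m : G) * s * (m : G)⁻¹) * (m : G)⁻¹ * ((m : G) * m) := by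
            rw [key]
        _ = (m : G) * m * s := by group
    obtain ⟨z, w, hzw, hcm, hz, hw, hzm, ⟨j, hj⟩⟩ := exists_pPart Nat.prime_two (m : G)
    have hzC : z ∈ C := hSC (mem_sylow_of_normalizes S hz
      ((Subgroup.zpowers_le.2 m.2.1) hzm))
    have hwC : w ∈ C := by
      obtain ⟨k, hk⟩ := Nat.odd_iff.2 (Nat.two_dvd_ne_zero.1 hw)
      have hw2 : w * w ∈ C := by
        rw [← (show (m : G) ^ j = w from hj), ← zpow_add, ← two_mul, zpow_mul, zpow_two]
        exact C.zpow_mem h2C j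
      have hwk : w = (w * w) ^ (k + 1) := by
        rw [← sq, ← pow_mul, show 2 * (k + 1) = orderOf w + 1 by omega, pow_succ,
          pow_orderOf_eq_one, one_mul]
      rw [hwk]; exact C.pow_mem hw2 _
    exact hzw ▸ C.mul_mem hzC hwC
  have hnH : n ∈ H := Subgroup.mem_centralizer_singleton_iff.2 (mul_inv_eq_iff_eq_mul.1 hnt)
  obtain ⟨z, w, hzw, hcm, hz, hw, hzm, hwm⟩ := exists_pPart Nat.prime_two n
  have hwSt : w ∈ St := (Subgroup.zpowers_le.2 (show n ∈ St from ⟨hnN, hnH⟩)) hwm
  have hwC : w ∉ C := fun h => hnC (hzw ▸ C.mul_mem (hSC (mem_sylow_of_normalizes S hz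
    ((Subgroup.zpowers_le.2 hnN) hzm))) h)
  have hψw : ψ ⟨w, hwSt⟩ ≠ 1 := fun h => hwC (hker _ h)
  -- the image has order three
  have hQ : Nat.card ((S : Subgroup G) ⧸ K) = 4 := by
    have h := K.card_eq_card_quotient_mul_card_subgroup
    have hK : Nat.card K = 2 := by
      rw [Nat.card_congr (Subgroup.subgroupOfEquivOfLe (Subgroup.zpowers_le.2 htS)).toEquiv,
        Nat.card_zpowers, ht]
    rw [h8, hK] at h; omega
  have hr24 : Nat.card ψ.range ∣ 24 := by
    refine (Subgroup.card_subgroup_dvd_card _).trans (dvd_of_eq ?_)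
    rw [Nat.card_perm, hQ]; rfl
  have hSSt : (S : Subgroup G) ≤ St := le_inf Subgroup.le_normalizer hSH
  have hrodd : ¬ 2 ∣ Nat.card ψ.range := by
    rw [← Subgroup.index_ker]
    refine fun h => S.not_dvd_index ((h.trans (Subgroup.index_dvd_of_le
      (show (S : Subgroup G).subgroupOf St ≤ ψ.ker from fun m hm => ?_))).trans
      (Subgroup.relIndex_dvd_index_of_le hSSt))
    refine MonoidHom.mem_ker.2 (Equiv.ext fun q => QuotientGroup.induction_on q fun s => ?_)
    rw [show ψ m _ = f m _ from rfl, f_mk, Equiv.Perm.one_apply]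
    congr 1
    ext
    show (m : G) * s * (m : G)⁻¹ = s
    rw [Subgroup.mul_comm_of_mem_isMulCommutative (S : Subgroup G)
      (show (m : G) ∈ (S : Subgroup G) from hm) s.2, mul_inv_cancel_right]
  have hr3 : Nat.card ψ.range = 3 := by
    have h3 : Nat.card ψ.range ∣ 3 := Nat.Coprime.dvd_of_dvd_mul_right
      ((Nat.Prime.coprime_iff_not_dvd Nat.prime_two).2 hrodd |>.symm.pow_right 3)
      (show Nat.card ψ.range ∣ 3 * 2 ^ 3 by exact hr24)
    rcases (Nat.dvd_prime Nat.prime_three).1 h3 with h | h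
    · refine absurd ?_ hψw
      exact Subgroup.mem_bot.1 ((Subgroup.card_eq_one.1 h) ▸ ⟨_, rfl⟩)
    · exact h
  set σ := ψ ⟨w, hwSt⟩ with hσ
  have hσ3 : σ ^ 3 = 1 := by
    have h : (⟨σ, _, rfl⟩ : ψ.range) ^ Nat.card ψ.range = 1 := pow_card_eq_one'
    rw [hr3] at h
    exact congrArg Subtype.val h
  have hcoverσ : ∀ m : St, ∃ i < 3, ψ m = σ ^ i := by
    intro m
    have hgen : Subgroup.zpowers σ = ψ.range := by
      refine Subgroup.eq_of_le_of_card_ge (Subgroup.zpowers_le.2 ⟨_, rfl⟩) ?_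
      rw [hr3, Nat.card_zpowers, orderOf_eq_prime hσ3 hψw]
    have hm : ψ m ∈ Subgroup.zpowers σ := hgen ▸ ⟨m, rfl⟩
    obtain ⟨i, hi, e⟩ := (isOfFinOrder_of_finite σ).mem_zpowers_iff_mem_range_orderOf.1 hm |> Finset.mem_image.1
    rw [Finset.mem_range, orderOf_eq_prime hσ3 hψw] at hi
    exact ⟨i, hi, e.symm⟩
  -- odd elements centralising `S` lie in the core
  set O := pPrimeCore 2 H with hOdef
  have hcore : ∀ c : H, (c : G) ∈ C → ¬ 2 ∣ orderOf c → c ∈ O := by
    intro c hc hodd
    let q := QuotientGroup.mk' O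
    haveI : Group.IsSolvable (H ⧸ O) := Group.isSolvable_of_surjective (QuotientGroup.mk'_surjective O)
    let S' : Sylow 2 H := S.subtype hSH
    let Sb : Sylow 2 (H ⧸ O) := S'.mapSurjective (QuotientGroup.mk'_surjective O)
    have hcc : q c ∈ Subgroup.centralizer (pCore 2 (H ⧸ O) : Set (H ⧸ O)) := by
      refine Subgroup.mem_centralizer_iff.2 fun y hy => ?_
      obtain ⟨y', hy', rfl⟩ := pCore_le_sylow Sb hy
      show q y' * q c = q c * q y'
      rw [← map_mul, ← map_mul]
      congr 1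
      exact Subtype.ext (Subgroup.mem_centralizer_iff.1 hc _ hy')
    have hmem := centralizer_pCore_le Nat.prime_two (pPrimeCore_quotient_eq_bot 2) hcc
    obtain ⟨k, hk⟩ := IsPGroup.iff_orderOf.1 (isPGroup_pCore (G := H ⧸ O) 2) ⟨_, hmem⟩
    rw [Subgroup.orderOf_mk] at hk
    have h1 : orderOf (q c) = 1 := Nat.eq_one_of_dvd_coprimes
      (((Nat.Prime.coprime_iff_not_dvd Nat.prime_two).2 hodd).pow_left k) (hk ▸ dvd_rfl)
      (orderOf_map_dvd q c)
    exact (QuotientGroup.eq_one_iff c).1 (orderOf_eq_one_iff.1 h1)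
  -- an element fixing more than `t`
  have hfix : ∀ s ∈ (S : Subgroup G), w * s = s * w → s = 1 ∨ s = t := by
    intro s hs hws
    by_contra hs'
    push Not at hs'
    haveI := Fintype.ofFinite ((S : Subgroup G) ⧸ K)
    let q0 : (S : Subgroup G) ⧸ K := ((1 : (S : Subgroup G)) : (S : Subgroup G) ⧸ K)
    let q1 : (S : Subgroup G) ⧸ K := ((⟨s, hs⟩ : (S : Subgroup G)) : (S : Subgroup G) ⧸ K)
    have hfixq : ∀ x : (S : Subgroup G), w * x = x * w →
        σ (x : (S : Subgroup G) ⧸ K) = (x : (S : Subgroup G) ⧸ K) := by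
      intro x hx
      rw [show σ _ = f ⟨w, hwSt⟩ _ from rfl, f_mk]
      congr 1
      exact Subtype.ext (by show w * (x : G) * w⁻¹ = x; rw [hx, mul_inv_cancel_right])
    have hne : q0 ≠ q1 := fun e => by
      have h := QuotientGroup.eq.1 e
      rw [← QuotientGroup.leftRel_apply, hKmem] at h
      simp only [OneMemClass.coe_one, one_mul] at h
      exact h.elim hs'.1 hs'.2
    have key : ∀ τ : Equiv.Perm (Fin 4), ∀ a b : Fin 4, a ≠ b → τ a = a → τ b = b → τ ^ 3 = 1 → τ = 1 := by
      decide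
    let e4 : (S : Subgroup G) ⧸ K ≃ Fin 4 :=
      (Fintype.equivFinOfCardEq (by rw [← Nat.card_eq_fintype_card, hQ]))
    have h := key (e4.permCongrHom σ) (e4 q0) (e4 q1) (e4.injective.ne hne)
      (by show e4 (σ (e4.symm (e4 q0))) = e4 q0; rw [Equiv.symm_apply_apply, hfixq 1 (by simp)])
      (by show e4 (σ (e4.symm (e4 q1))) = e4 q1; rw [Equiv.symm_apply_apply, hfixq ⟨s, hs⟩ hws])
      (by rw [← map_pow, hσ3, map_one])
    exact hψw (e4.permCongrHom.injective (h.trans (map_one _).symm))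
  let b : H := ⟨w, hwSt.2⟩
  have hbodd : ¬ 2 ∣ orderOf b := by rwa [← Subgroup.orderOf_coe]
  have hb3 : b ^ 3 ∈ O := by
    refine hcore _ ?_ fun h => hbodd (h.trans ⟨Nat.gcd (orderOf b) 3, ?_⟩)
    · exact hker (⟨w, hwSt⟩ ^ 3) (by rw [map_pow]; exact hσ3)
    · rw [orderOf_pow, Nat.div_mul_cancel (Nat.gcd_dvd_left _ _)]
  have hbS : ∀ s ∈ (S : Subgroup G), (b : G) * s * (b : G)⁻¹ ∈ (S : Subgroup G) := fun s hs =>
    hnS hwSt.1 hs
  have hdec : ∀ h : H, ∃ s : H, (s : G) ∈ (S : Subgroup G) ∧ ∃ i < 3, ∃ k ∈ O, h = s * b ^ i * k := by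
    intro h
    let S' : Sylow 2 H := S.subtype hSH
    have hScomm : IsMulCommutative S' := ⟨⟨fun x y => Subtype.ext (Subtype.ext
      (Subgroup.mul_comm_of_mem_isMulCommutative (S : Subgroup G) x.2 y.2))⟩⟩
    haveI := Cfsg.Agent.S0018.result 2 S' hScomm
    have htop := S'.normalizer_sup_eq_top' (N := (S' : Subgroup H) ⊔ O) le_sup_left
    have hle : (⊤ : Subgroup H) ≤ Subgroup.normalizer ((S' : Subgroup H) : Set H) ⊔ O := by
      rw [← htop]
      exact sup_le le_sup_left (sup_le (le_sup_of_le_left Subgroup.le_normalizer) le_sup_right)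
    obtain ⟨m, hm, k, hk, hmk⟩ := Subgroup.mem_sup_of_normal_right.1 (hle (Subgroup.mem_top h))
    have hmN : (m : G) ∈ N := by
      refine Subgroup.mem_normalizer_iff.2 fun s => ⟨fun hs => ?_, fun hs => ?_⟩
      · exact (Subgroup.mem_normalizer_iff.1 hm ⟨s, hSH hs⟩).1 hs
      · have hsH : s ∈ H := by
          have := H.mul_mem (H.mul_mem (H.inv_mem m.2) (hSH hs)) m.2
          simpa [mul_assoc] using this
        exact (Subgroup.mem_normalizer_iff.1 hm ⟨s, hsH⟩).2 hs
    obtain ⟨i, hi, hψi⟩ := hcoverσ ⟨m, hmN, m.2⟩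
    let c : H := (b ^ i)⁻¹ * m
    have hcC : (c : G) ∈ C := by
      refine hker ((⟨w, hwSt⟩ ^ i)⁻¹ * ⟨(m : G), hmN, m.2⟩) ?_
      rw [map_mul, map_inv, map_pow, hψi, inv_mul_cancel]
    obtain ⟨z', w', hzw', -, hz', hw', hzm', hwm'⟩ := exists_pPart Nat.prime_two c
    have hzC : (z' : G) ∈ C := by
      obtain ⟨j, hj⟩ := hzm'
      rw [← (show c ^ j = z' from hj), Subgroup.coe_zpow]
      exact C.zpow_mem hcC j
    have hzS : (z' : G) ∈ (S : Subgroup G) := mem_sylow_of_normalizes S
      (by simpa [Subgroup.orderOf_coe] using hz') (Subgroup.centralizer_le_normalizer _ hzC)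
    have hw'O : w' ∈ O := by
      refine hcore _ ?_ hw'
      obtain ⟨j, hj⟩ := hwm'
      rw [← (show c ^ j = w' from hj), Subgroup.coe_zpow]
      exact C.zpow_mem hcC j
    refine ⟨b ^ i * z' * (b ^ i)⁻¹, ?_, i, hi, w' * k, O.mul_mem hw'O hk, ?_⟩
    · simpa using hnS (N.pow_mem hwSt.1 i) hzS
    · calc h = m * k := hmk.symm
        _ = b ^ i * c * k := by simp [c]
        _ = b ^ i * z' * (b ^ i)⁻¹ * b ^ i * (w' * k) := by rw [← hzw']; group
  refine ⟨⟨S, t, hsq, h8, ht, htS, fun u hu => ?_, b, hbodd, hbS, hfix, O, inferInstance,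
    not_dvd_card_pPrimeCore Nat.prime_two, hb3, hdec, rfl, hC t ht⟩⟩
  obtain ⟨T, hT⟩ := (IsPGroup.of_card (p := 2) (n := 1)
    (by rw [Nat.card_zpowers, hu, pow_one]) : IsPGroup 2 (Subgroup.zpowers u)).exists_le_sylow
  obtain ⟨c, rfl⟩ := MulAction.exists_smul_eq G S T
  obtain ⟨v, hv, hve⟩ := hT (Subgroup.mem_zpowers u)
  have hve' : c * v * c⁻¹ = u := hve
  have hv1 : v ≠ 1 := fun e => by
    rw [← hve', e, mul_one, mul_inv_cancel, orderOf_one] at hu; omega
  obtain ⟨m, -, hm⟩ := htr t htS v hv ht1 hv1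
  exact ⟨c * m, by rw [← hve', ← hm]; group⟩

end CfsgLib.E8Solv
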