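import Cfsg.Agent.Lib.E8Solv.Local
import Cfsg.Agent.Lib.Blocks.Principal
import Cfsg.Agent.Lib.Blocks.Inflation
import Cfsg.Agent.Lib.Blocks.CyclicModel
import Cfsg.Agent.Lib.ZStar.Fusion

/-!
# The averaged character columns of the configuration

For `i < 3` the average of a character over the fibre `t b ^ i O`.
-/

namespace CfsgLib.E8Solv

open Cfsg CfsgLib CfsgLib.CharTheory CfsgLib.Blocks
open scoped ComplexConjugate

set_option autoImplicit false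
set_option linter.style.haveILetI false
set_option linter.unusedSectionVars false

universe u

/-- Orthogonality as a count of conjugating elements. -/
theorem sum_irr_eq_card {G : Type u} [Group G] [Fintype G] (g h : G) :
    ∑ χ : IrrCharacter G, (χ : G → ℂ) g * conj ((χ : G → ℂ) h) =
      (Nat.card {z : G // z * g * z⁻¹ = h} : ℂ) := by
  classical
  rw [sum_irr_mul_conj g h]
  split_ifs with hc
  · obtain ⟨c, hc⟩ := isConj_iff.1 hc
    congr 1
    refine Nat.card_congr (Equiv.subtypeEquiv (Equiv.mulLeft c) fun z => ?_)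
    rw [Subgroup.mem_centralizer_singleton_iff, Equiv.coe_mulLeft, ← hc]
    constructor
    · intro e
      calc c * z * g * (c * z)⁻¹ = c * (z * g) * z⁻¹ * c⁻¹ := by group
        _ = c * g * c⁻¹ := by rw [e]; group
    · intro e
      calc z * g = c⁻¹ * (c * z * g * (c * z)⁻¹) * c * z := by group
        _ = g * z := by rw [e]; group
  · haveI : IsEmpty {z : G // z * g * z⁻¹ = h} := ⟨fun z => hc (isConj_iff.2 ⟨z, z.2⟩)⟩
    rw [Nat.card_of_isEmpty, Nat.cast_zero]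

theorem pPrimeCore_quotient_of_eq {H : Type u} [Group H] [Finite H] {O : Subgroup H} [O.Normal]
    (h : O = pPrimeCore 2 H) : pPrimeCore 2 (H ⧸ O) = ⊥ := by
  subst h
  exact pPrimeCore_quotient_eq_bot 2

namespace Data

variable {G : Type u} [Group G] [Fintype G] (D : Data G)

/-- The centraliser of `t`. -/
abbrev H : Subgroup G := Subgroup.centralizer ({D.t} : Set G)

noncomputable instance instFintypeH : Fintype D.H := Fintype.ofFinite _

noncomputable instance instFintypeO : Fintype D.O := Fintype.ofFinite _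

instance instNormalO : D.O.Normal := D.O_normal

/-- `t` in its centraliser. -/
def T : D.H := ⟨D.t, Subgroup.mem_centralizer_singleton_iff.2 rfl⟩

theorem T_comm (h : D.H) : Commute D.T h :=
  Subtype.ext (Subgroup.mem_centralizer_singleton_iff.1 h.2).symm

theorem T_sq : D.T * D.T = 1 := Subtype.ext (D.sq D.t D.t_mem)

theorem T_ne : D.T ≠ 1 := fun e => by
  have h : D.t = 1 := congrArg Subtype.val e
  have := D.order_t
  rw [h, orderOf_one] at this; omega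

theorem inv_eq {s : D.H} (hs : (s : G) ∈ (D.S : Subgroup G)) : s⁻¹ = s :=
  inv_eq_of_mul_eq_one_right (Subtype.ext (D.sq s hs))

theorem S_comm {s x : D.H} (hs : (s : G) ∈ (D.S : Subgroup G)) (hx : (x : G) ∈ (D.S : Subgroup G)) :
    s * x = x * s := by
  calc s * x = (s * x)⁻¹ := (D.inv_eq (s := s * x) (by simpa using mul_mem hs hx)).symm
    _ = x * s := by rw [mul_inv_rev, D.inv_eq hs, D.inv_eq hx]

theorem eq_one_of_mem_O {s : D.H} (hs : (s : G) ∈ (D.S : Subgroup G)) (hO : s ∈ D.O) : s = 1 := by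
  have h2 : orderOf s ∣ 2 := orderOf_dvd_of_pow_eq_one
    ((pow_two s).trans (Subtype.ext (D.sq s hs) : s * s = 1))
  rcases (Nat.dvd_prime Nat.prime_two).1 h2 with h | h
  · exact orderOf_eq_one_iff.1 h
  · exact absurd (h ▸ Subgroup.orderOf_dvd_natCard _ hO) D.O_odd

theorem pow_b_norm (i : ℕ) {s : D.H} (hs : (s : G) ∈ (D.S : Subgroup G)) :
    ((D.b ^ i * s * (D.b ^ i)⁻¹ : D.H) : G) ∈ (D.S : Subgroup G) := by
  induction i with
  | zero => simpa using hs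
  | succ n ih =>
    rw [show D.b ^ (n + 1) * s * (D.b ^ (n + 1))⁻¹ = D.b * (D.b ^ n * s * (D.b ^ n)⁻¹) * D.b⁻¹ by
      rw [pow_succ']; group]
    simpa using D.b_norm _ ih

theorem b_not_mem {s : D.H} (hs : (s : G) ∈ (D.S : Subgroup G)) : s * D.b ∉ D.O := by
  intro hk
  have hall : ∀ x ∈ (D.S : Subgroup G), x = 1 ∨ x = D.t := by
    intro x hx
    refine D.b_fix x hx ?_
    let X : D.H := ⟨x, Subgroup.mem_centralizer_singleton_iff.2 (by
      calc x * D.t = (x * D.t)⁻¹ := (inv_eq_of_mul_eq_one_right (D.sq _ (mul_mem hx D.t_mem))).symm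
        _ = D.t * x := by
          rw [mul_inv_rev, inv_eq_of_mul_eq_one_right (D.sq _ hx),
            inv_eq_of_mul_eq_one_right (D.sq _ D.t_mem)])⟩
    set k := s * D.b with hkdef
    have hcS : ((k * X * k⁻¹ * X⁻¹ : D.H) : G) ∈ (D.S : Subgroup G) := by
      rw [show k * X * k⁻¹ * X⁻¹ = s * (D.b * X * D.b⁻¹) * s⁻¹ * X⁻¹ by rw [hkdef]; group]
      simpa using mul_mem (mul_mem (mul_mem hs (D.b_norm x hx)) (inv_mem hs)) (inv_mem hx)
    have hcO : k * X * k⁻¹ * X⁻¹ ∈ D.O := by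
      rw [show k * X * k⁻¹ * X⁻¹ = k * (X * k⁻¹ * X⁻¹) by group]
      exact mul_mem hk (D.O_normal.conj_mem _ (inv_mem hk) X)
    have h1 := D.eq_one_of_mem_O hcS hcO
    have hsb : s * (D.b * X * D.b⁻¹) * s⁻¹ = X := by
      rw [← mul_inv_eq_one, ← h1, hkdef]; group
    rw [D.S_comm hs (x := D.b * X * D.b⁻¹) (by simpa using D.b_norm x hx), mul_inv_cancel_right] at hsb
    exact congrArg Subtype.val (mul_inv_eq_iff_eq_mul.1 hsb)
  classical
  have hsub : (Finset.univ.filter fun x => x ∈ (D.S : Subgroup G)) ⊆ {1, D.t} := by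
    intro x hx
    simpa using hall x (Finset.mem_filter.1 hx).2
  have h8 := D.card8
  rw [Nat.card_eq_fintype_card, Fintype.card_subtype] at h8
  have := (Finset.card_le_card hsub).trans Finset.card_le_two
  omega

theorem pow_mem_iff {s : D.H} (hs : (s : G) ∈ (D.S : Subgroup G)) {i : ℕ} (hi : i < 3)
    (h : s * D.b ^ i ∈ D.O) : i = 0 ∧ s = 1 := by
  interval_cases i
  · exact ⟨rfl, D.eq_one_of_mem_O hs (by simpa using h)⟩
  · exact absurd (by simpa using h) (D.b_not_mem hs)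
  · exfalso
    set k := s * D.b ^ 2 with hk
    have hb4 : D.b ^ 4 ∈ D.O := by
      have e : D.b ^ 2 = s * k := by
        rw [hk, ← mul_assoc, show s * s = 1 from Subtype.ext (D.sq s hs), one_mul]
      rw [show D.b ^ 4 = D.b ^ 2 * D.b ^ 2 by rw [← pow_add], e,
        show s * k * (s * k) = (s * k * s⁻¹) * k by rw [D.inv_eq hs]; group]
      exact mul_mem (D.O_normal.conj_mem _ h s) h
    have hb : D.b ∈ D.O := by
      have := mul_mem hb4 (inv_mem D.b_cube)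
      rwa [show D.b ^ 4 * (D.b ^ 3)⁻¹ = D.b by group] at this
    exact D.b_not_mem (s := 1) (by simp) (by simpa using hb)

theorem pow_b_inv_norm (i : ℕ) {s : D.H} (hs : (s : G) ∈ (D.S : Subgroup G)) :
    (((D.b ^ i)⁻¹ * s * D.b ^ i : D.H) : G) ∈ (D.S : Subgroup G) := by
  obtain ⟨n, hn⟩ : ∃ n : ℕ, (D.b ^ i)⁻¹ = D.b ^ n :=
    ((Submonoid.mem_powers_iff _ _).1 ((isOfFinOrder_of_finite D.b).mem_powers_iff_mem_zpowers.2
      (inv_mem (pow_mem (Subgroup.mem_zpowers D.b) i)))).imp fun _ h => h.symm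
  have h := D.pow_b_norm n hs
  rwa [← hn, inv_inv] at h

theorem unique_of_le {s s' : D.H} (hs : (s : G) ∈ (D.S : Subgroup G))
    (hs' : (s' : G) ∈ (D.S : Subgroup G)) {i j : ℕ} (hij : i ≤ j) (hj : j < 3)
    (h : (s * D.b ^ i)⁻¹ * (s' * D.b ^ j) ∈ D.O) : i = j ∧ s = s' := by
  obtain ⟨e, rfl⟩ := Nat.exists_eq_add_of_le hij
  have hx : ((D.b ^ i)⁻¹ * (s⁻¹ * s') * D.b ^ i : D.H) * D.b ^ e ∈ D.O := by
    rwa [show (D.b ^ i)⁻¹ * (s⁻¹ * s') * D.b ^ i * D.b ^ e =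
      (s * D.b ^ i)⁻¹ * (s' * D.b ^ (i + e)) by rw [pow_add]; group]
  obtain ⟨rfl, h1⟩ := D.pow_mem_iff
    (D.pow_b_inv_norm i (s := s⁻¹ * s') (by simpa using mul_mem (inv_mem hs) hs')) (by omega) hx
  refine ⟨by omega, inv_mul_eq_one.1 ?_⟩
  calc s⁻¹ * s' = D.b ^ i * ((D.b ^ i)⁻¹ * (s⁻¹ * s') * D.b ^ i) * (D.b ^ i)⁻¹ := by group
    _ = 1 := by rw [h1, mul_one, mul_inv_cancel]

/-- Uniqueness of the decomposition. -/
theorem unique {s s' : D.H} (hs : (s : G) ∈ (D.S : Subgroup G)) (hs' : (s' : G) ∈ (D.S : Subgroup G))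
    {i j : ℕ} (hi : i < 3) (hj : j < 3) (h : (s * D.b ^ i)⁻¹ * (s' * D.b ^ j) ∈ D.O) :
    i = j ∧ s = s' := by
  rcases Nat.le_total i j with hij | hij
  · exact D.unique_of_le hs hs' hij hj h
  · obtain ⟨h1, h2⟩ := D.unique_of_le hs' hs hij hi (by
      have := inv_mem h
      rwa [mul_inv_rev, inv_inv] at this)
    exact ⟨h1.symm, h2.symm⟩

theorem card_H : Nat.card D.H = 24 * Nat.card D.O := by
  classical
  have hle : (D.S : Subgroup G) ≤ D.H := fun s hs => by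
    refine Subgroup.mem_centralizer_singleton_iff.2 ?_
    calc s * D.t = (s * D.t)⁻¹ := (inv_eq_of_mul_eq_one_right (D.sq _ (mul_mem hs D.t_mem))).symm
      _ = D.t * s := by
        rw [mul_inv_rev, inv_eq_of_mul_eq_one_right (D.sq _ hs),
          inv_eq_of_mul_eq_one_right (D.sq _ D.t_mem)]
  let f : ↥(D.S : Subgroup G) × Fin 3 × D.O → D.H := fun p =>
    (⟨p.1, hle p.1.2⟩ : D.H) * D.b ^ (p.2.1 : ℕ) * p.2.2
  have hf : Function.Bijective f := by
    refine ⟨fun p p' e => ?_, fun h => ?_⟩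
    · obtain ⟨⟨s, hs⟩, i, k⟩ := p
      obtain ⟨⟨s', hs'⟩, j, k'⟩ := p'
      change (⟨s, hle hs⟩ : D.H) * D.b ^ (i : ℕ) * k = (⟨s', hle hs'⟩ : D.H) * D.b ^ (j : ℕ) * k' at e
      obtain ⟨hij, hss⟩ := D.unique (s := ⟨s, hle hs⟩) (s' := ⟨s', hle hs'⟩) hs hs' i.2 j.2 (by
        convert mul_mem k.2 (inv_mem k'.2) using 1
        rw [eq_mul_inv_iff_mul_eq, mul_assoc, inv_mul_eq_iff_eq_mul]
        exact e.symm)
      obtain rfl := Fin.ext hij
      have hsv : s = s' := congrArg Subtype.val hss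
      subst hsv
      exact Prod.ext rfl (Prod.ext rfl (Subtype.ext (mul_left_cancel e)))
    · obtain ⟨s, hs, i, hi, k, hk, rfl⟩ := D.decomp h
      exact ⟨(⟨s, hs⟩, ⟨i, hi⟩, ⟨k, hk⟩), rfl⟩
  rw [← Nat.card_congr (Equiv.ofBijective f hf), Nat.card_prod, Nat.card_prod, D.card8,
    Nat.card_eq_fintype_card (α := Fin 3), Fintype.card_fin]
  ring

/-- The element `t b ^ i`. -/
def y (i : ℕ) : D.H := D.T * D.b ^ i

/-- The average of a function over `y O`. -/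
noncomputable def avg (χ : G → ℂ) (y : D.H) : ℂ :=
  (Nat.card D.O : ℂ)⁻¹ * ∑ k : D.O, χ ((y * k : D.H) : G)

theorem card_O_ne : (Nat.card D.O : ℂ) ≠ 0 := Nat.cast_ne_zero.2 Nat.card_pos.ne'

theorem avg_congr (χ : G → ℂ) {y y' : D.H} (h : y⁻¹ * y' ∈ D.O) : D.avg χ y' = D.avg χ y := by
  unfold avg
  congr 1
  exact Fintype.sum_equiv (Equiv.mulLeft (⟨y⁻¹ * y', h⟩ : D.O)) _ _ fun k => by
    simp [mul_assoc]

theorem pow_fibre (i : ℕ) (k : D.O) : (D.y i * k) ^ (3 * Nat.card D.O) = D.T := by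
  obtain ⟨r, hr⟩ := Nat.odd_iff.2 (Nat.two_dvd_ne_zero.1 D.O_odd)
  have hc : Commute D.T (D.b ^ i * k) := D.T_comm _
  have h3 : (D.b ^ i * k) ^ 3 ∈ D.O := by
    rw [← QuotientGroup.eq_one_iff, QuotientGroup.mk_pow, QuotientGroup.mk_mul,
      (QuotientGroup.eq_one_iff (k : D.H)).2 k.2, mul_one, QuotientGroup.mk_pow, ← pow_mul, mul_comm,
      pow_mul, ← QuotientGroup.mk_pow, (QuotientGroup.eq_one_iff _).2 D.b_cube, one_pow]
  rw [y, mul_assoc, hc.mul_pow, pow_mul (D.b ^ i * k),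
    show ((D.b ^ i * k) ^ 3) ^ Nat.card D.O = 1 from
      congrArg Subtype.val (pow_card_eq_one' (x := (⟨_, h3⟩ : D.O))), mul_one,
    show 3 * Nat.card D.O = 2 * (3 * r + 1) + 1 by omega, pow_succ, pow_mul, pow_two D.T, D.T_sq, one_pow,
    one_mul]

theorem mem_H_of_conj {i j : ℕ} {k k' : D.O} {z : G}
    (h : z * ((D.y i * k : D.H) : G) * z⁻¹ = ((D.y j * k' : D.H) : G)) : z ∈ D.H := by
  have e := congrArg (· ^ (3 * Nat.card D.O)) h
  simp only [conj_pow, ← Subgroup.coe_pow, pow_fibre] at e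
  exact Subgroup.mem_centralizer_singleton_iff.2 (mul_inv_eq_iff_eq_mul.1 e)

/-- The elements of `H` carrying the class of `y i` to that of `y j` modulo `O`. -/
noncomputable def count (i j : ℕ) : ℕ :=
  Nat.card {z : D.H // (D.y j)⁻¹ * (z * D.y i * z⁻¹) ∈ D.O}

theorem count_zero : D.count 0 0 = 24 * Nat.card D.O := by
  rw [count, ← D.card_H]
  refine Nat.card_congr (Equiv.subtypeUnivEquiv fun z => ?_)
  rw [show D.y 0 = D.T by simp [y], ← (D.T_comm z).eq, mul_inv_cancel_right, inv_mul_cancel]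
  exact one_mem _

theorem count_iff {s : D.H} (hs : (s : G) ∈ (D.S : Subgroup G)) (l : ℕ) (k : D.O) {i j : ℕ}
    (hi : i < 3) (hj : j < 3) :
    (D.y j)⁻¹ * (s * D.b ^ l * k * D.y i * (s * D.b ^ l * k)⁻¹) ∈ D.O ↔
      i = j ∧ s * D.b ^ i = D.b ^ i * s := by
  set x := s * (D.b ^ i * s⁻¹ * (D.b ^ i)⁻¹) with hx
  have hxS : (x : G) ∈ (D.S : Subgroup G) := by
    have := D.pow_b_norm i (s := s⁻¹) (by simpa using inv_mem hs)
    simpa [hx] using mul_mem hs this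
  have key : (D.y j)⁻¹ * (s * D.b ^ l * k * D.y i * (s * D.b ^ l * k)⁻¹) ∈ D.O ↔
      (1 * D.b ^ j)⁻¹ * (x * D.b ^ i) ∈ D.O := by
    rw [← QuotientGroup.eq_one_iff, ← QuotientGroup.eq_one_iff]
    refine Eq.congr ?_ rfl
    simp only [y, hx, QuotientGroup.mk_mul, QuotientGroup.mk_inv, mul_inv_rev, inv_one, one_mul,
      QuotientGroup.mk_pow, (QuotientGroup.eq_one_iff (k : D.H)).2 k.2, mul_one]
    have hT : ∀ h : D.H ⧸ D.O, Commute (D.T : D.H ⧸ D.O) h := fun h =>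
      QuotientGroup.induction_on h fun a => (D.T_comm a).map (QuotientGroup.mk' D.O)
    calc ((D.b : D.H ⧸ D.O) ^ j)⁻¹ * (D.T : D.H ⧸ D.O)⁻¹ *
          ((s : D.H ⧸ D.O) * (D.b : D.H ⧸ D.O) ^ l * ((D.T : D.H ⧸ D.O) * (D.b : D.H ⧸ D.O) ^ i) *
            (((D.b : D.H ⧸ D.O) ^ l)⁻¹ * (s : D.H ⧸ D.O)⁻¹))
        = ((D.b : D.H ⧸ D.O) ^ j)⁻¹ * (D.T : D.H ⧸ D.O)⁻¹ *
          ((s : D.H ⧸ D.O) * (D.b : D.H ⧸ D.O) ^ l * (D.T : D.H ⧸ D.O)) *
          ((D.b : D.H ⧸ D.O) ^ i * ((D.b : D.H ⧸ D.O) ^ l)⁻¹ * (s : D.H ⧸ D.O)⁻¹) := by group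
      _ = ((D.b : D.H ⧸ D.O) ^ j)⁻¹ *
          ((s : D.H ⧸ D.O) * (D.b : D.H ⧸ D.O) ^ l) *
          ((D.b : D.H ⧸ D.O) ^ i * ((D.b : D.H ⧸ D.O) ^ l)⁻¹ * (s : D.H ⧸ D.O)⁻¹) := by
            rw [← (hT ((s : D.H ⧸ D.O) * (D.b : D.H ⧸ D.O) ^ l)).eq]; group
      _ = _ := by group
  rw [key]
  constructor
  · intro h
    obtain ⟨rfl, h1⟩ := D.unique (by simp) hxS hj hi h
    refine ⟨rfl, ?_⟩
    have h2 : s * (D.b ^ j * s⁻¹ * (D.b ^ j)⁻¹) = 1 := h1.symm
    calc s * D.b ^ j = (s * (D.b ^ j * s⁻¹ * (D.b ^ j)⁻¹)) * D.b ^ j * s := by group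
      _ = D.b ^ j * s := by rw [h2, one_mul]
  · rintro ⟨rfl, h⟩
    have : x = 1 := by
      rw [hx, show s * (D.b ^ i * s⁻¹ * (D.b ^ i)⁻¹) = (s * D.b ^ i) * s⁻¹ * (D.b ^ i)⁻¹ by group, h]
      group
    rw [this, inv_mul_cancel]
    exact one_mem _

theorem count_ne {i j : ℕ} (hi : i < 3) (hj : j < 3) (hij : i ≠ j) : D.count i j = 0 := by
  haveI : IsEmpty {z : D.H // (D.y j)⁻¹ * (z * D.y i * z⁻¹) ∈ D.O} := ⟨fun ⟨z, hz⟩ => by
    obtain ⟨s, hs, l, -, k, hk, rfl⟩ := D.decomp z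
    exact hij ((D.count_iff hs l ⟨k, hk⟩ hi hj).1 hz).1⟩
  exact Nat.card_of_isEmpty

theorem count_self {i : ℕ} (hi1 : 1 ≤ i) (hi : i < 3) : D.count i i = 6 * Nat.card D.O := by
  have hbs : ∀ s : D.H, (s : G) ∈ (D.S : Subgroup G) → s * D.b ^ i = D.b ^ i * s → s = 1 ∨ s = D.T := by
    intro s hs h
    have hb : Commute D.b s := by
      interval_cases i
      · show D.b * s = s * D.b
        simpa using h.symm
      · obtain ⟨r, hr⟩ := Nat.odd_iff.2 (Nat.two_dvd_ne_zero.1 D.b_odd)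
        have : Commute ((D.b ^ 2) ^ (r + 1)) s := Commute.pow_left h.symm _
        rwa [← pow_mul, show 2 * (r + 1) = orderOf D.b + 1 by omega, pow_succ, pow_orderOf_eq_one,
          one_mul] at this
    exact (D.b_fix s hs (congrArg Subtype.val hb.eq)).imp (fun e => Subtype.ext e) fun e => Subtype.ext e
  have hTS : ((D.T : D.H) : G) ∈ (D.S : Subgroup G) := D.t_mem
  have hTa : ∀ a : ℕ, ((D.T ^ a : D.H) : G) ∈ (D.S : Subgroup G) := fun a => by
    simpa using pow_mem hTS a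
  let f : Fin 2 × Fin 3 × D.O → {z : D.H // (D.y i)⁻¹ * (z * D.y i * z⁻¹) ∈ D.O} := fun p =>
    ⟨D.T ^ (p.1 : ℕ) * D.b ^ (p.2.1 : ℕ) * p.2.2, (D.count_iff (hTa _) _ _ hi hi).2
      ⟨rfl, ((D.T_comm (D.b ^ i)).pow_left _).eq⟩⟩
  have hf : Function.Bijective f := by
    refine ⟨fun p p' e => ?_, fun ⟨z, hz⟩ => ?_⟩
    · obtain ⟨a, l, k⟩ := p
      obtain ⟨a', l', k'⟩ := p'
      have e' : D.T ^ (a : ℕ) * D.b ^ (l : ℕ) * k = D.T ^ (a' : ℕ) * D.b ^ (l' : ℕ) * k' :=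
        congrArg Subtype.val e
      obtain ⟨hll, haa⟩ := D.unique (hTa a) (hTa a') l.2 l'.2 (by
        convert mul_mem k.2 (inv_mem k'.2) using 1
        rw [eq_mul_inv_iff_mul_eq, mul_assoc, inv_mul_eq_iff_eq_mul]
        exact e'.symm)
      obtain rfl := Fin.ext hll
      have : a = a' := by
        have h1 := D.T_ne
        fin_cases a <;> fin_cases a' <;> simp_all
      subst this
      exact Prod.ext rfl (Prod.ext rfl (Subtype.ext (mul_left_cancel e')))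
    · obtain ⟨s, hs, l, hl, k, hk, rfl⟩ := D.decomp z
      rcases hbs s hs ((D.count_iff hs l ⟨k, hk⟩ hi hi).1 hz).2 with rfl | rfl
      · exact ⟨(0, ⟨l, hl⟩, ⟨k, hk⟩), Subtype.ext (by simp [f])⟩
      · exact ⟨(1, ⟨l, hl⟩, ⟨k, hk⟩), Subtype.ext (by simp [f])⟩
  rw [count, ← Nat.card_congr (Equiv.ofBijective f hf), Nat.card_prod, Nat.card_prod,
    Nat.card_eq_fintype_card (α := Fin 2), Fintype.card_fin,
    Nat.card_eq_fintype_card (α := Fin 3), Fintype.card_fin]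
  ring

/-- Orthogonality of the averaged columns. -/
theorem sum_avg_mul_conj (i j : ℕ) :
    ∑ χ : IrrCharacter G, D.avg (χ : G → ℂ) (D.y i) * conj (D.avg (χ : G → ℂ) (D.y j)) =
      (D.count i j : ℂ) / (Nat.card D.O : ℂ) := by
  classical
  have hconj : ∀ k k' : D.O,
      Nat.card {z : G // z * ((D.y i * k : D.H) : G) * z⁻¹ = ((D.y j * k' : D.H) : G)} =
      Nat.card {z : D.H // z * (D.y i * k) * z⁻¹ = D.y j * k'} := by
    intro k k'
    exact Nat.card_congr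
      { toFun := fun z => ⟨⟨z.1, D.mem_H_of_conj z.2⟩, Subtype.ext z.2⟩
        invFun := fun z => ⟨z.1, congrArg Subtype.val z.2⟩
        left_inv := fun z => rfl
        right_inv := fun z => rfl }
  have hsum : ∀ k : D.O, ∑ k' : D.O, Nat.card {z : D.H // z * (D.y i * k) * z⁻¹ = D.y j * k'} =
      D.count i j := by
    intro k
    rw [← Nat.card_sigma, count]
    have hk : ∀ z : D.H, (D.y j)⁻¹ * (z * (D.y i * k) * z⁻¹) ∈ D.O ↔
        (D.y j)⁻¹ * (z * D.y i * z⁻¹) ∈ D.O := fun z => by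
      rw [show (D.y j)⁻¹ * (z * (D.y i * k) * z⁻¹) =
        ((D.y j)⁻¹ * (z * D.y i * z⁻¹)) * (z * k * z⁻¹) by group]
      exact D.O.mul_mem_cancel_right (D.O_normal.conj_mem _ k.2 z)
    refine Nat.card_congr
      { toFun := fun p => ⟨p.2.1, (hk _).1 (by rw [p.2.2, inv_mul_cancel_left]; exact p.1.2)⟩
        invFun := fun z => ⟨⟨_, (hk z.1).2 z.2⟩, z.1, (mul_inv_cancel_left _ _).symm⟩
        left_inv := fun p => ?_
        right_inv := fun z => rfl }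
    obtain ⟨⟨k', hk'⟩, z, hz⟩ := p
    have : k' = (D.y j)⁻¹ * (z * (D.y i * k) * z⁻¹) := by rw [hz]; exact (inv_mul_cancel_left _ _).symm
    subst this
    rfl
  have hO := D.card_O_ne
  calc ∑ χ : IrrCharacter G, D.avg (χ : G → ℂ) (D.y i) * conj (D.avg (χ : G → ℂ) (D.y j))
      = (Nat.card D.O : ℂ)⁻¹ * (Nat.card D.O : ℂ)⁻¹ * ∑ k : D.O, ∑ k' : D.O,
          ∑ χ : IrrCharacter G, (χ : G → ℂ) ((D.y i * k : D.H) : G) *
            conj ((χ : G → ℂ) ((D.y j * k' : D.H) : G)) := by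
        simp only [avg, map_mul, map_inv₀, map_natCast, map_sum]
        rw [Finset.sum_congr (s₁ := (Finset.univ : Finset D.O)) rfl fun k _ => Finset.sum_comm,
          Finset.sum_comm, Finset.mul_sum]
        refine Finset.sum_congr rfl fun χ _ => ?_
        rw [← Finset.sum_mul_sum]; ring
    _ = (Nat.card D.O : ℂ)⁻¹ * (Nat.card D.O : ℂ)⁻¹ * ((Nat.card D.O * D.count i j : ℕ) : ℂ) := by
        congr 1
        rw [Finset.sum_congr rfl fun k _ => Finset.sum_congr rfl fun k' _ =>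
          (sum_irr_eq_card _ _).trans (congrArg Nat.cast (hconj k k'))]
        simp only [← Nat.cast_sum, hsum]
        rw [Finset.sum_const, Finset.card_univ, smul_eq_mul, Nat.card_eq_fintype_card]
    _ = _ := by push_cast; field_simp

theorem fibre_ne_one (i : ℕ) (k : D.O) : ((D.y i * k : D.H) : G) ≠ 1 := fun e =>
  D.T_ne (by rw [← D.pow_fibre i k, show D.y i * k = 1 from Subtype.ext e, one_pow])

theorem sum_degree_avg (i : ℕ) :
    ∑ χ : IrrCharacter G, (χ : G → ℂ) 1 * D.avg (χ : G → ℂ) (D.y i) = 0 := by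
  have h : ∀ k : D.O, ∑ χ : IrrCharacter G, (χ : G → ℂ) 1 * (χ : G → ℂ) ((D.y i * k : D.H) : G) = 0 := by
    intro k
    have h1 := sum_irr_eq_card ((D.y i * k : D.H) : G) (1 : G)
    haveI : IsEmpty {z : G // z * ((D.y i * k : D.H) : G) * z⁻¹ = 1} :=
      ⟨fun z => D.fibre_ne_one i k (conj_eq_one_iff.1 z.2)⟩
    rw [Nat.card_of_isEmpty, Nat.cast_zero] at h1
    refine Eq.trans (Finset.sum_congr rfl fun χ _ => ?_) h1
    rw [irr_one_conj, mul_comm]
  simp only [avg, Finset.mul_sum]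
  rw [Finset.sum_comm]
  refine Finset.sum_eq_zero fun k _ => ?_
  rw [Finset.sum_congr rfl fun χ _ => mul_left_comm _ _ _, ← Finset.mul_sum, h k, mul_zero]

theorem conj_avg (χ : IrrCharacter G) (y : D.H) :
    conj (D.avg (χ : G → ℂ) y) = D.avg (χ : G → ℂ) y⁻¹ := by
  simp only [avg, map_mul, map_inv₀, map_natCast, map_sum, irr_conjInv]
  congr 1
  refine Fintype.sum_bijective (fun k : D.O => (⟨y * (k : D.H)⁻¹ * y⁻¹,
    D.O_normal.conj_mem _ (inv_mem k.2) y⟩ : D.O)) ?_ _ _ fun k => ?_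
  · refine Finite.injective_iff_bijective.1 fun k k' e => ?_
    simpa using e
  · refine congrArg (χ : G → ℂ) ?_
    rw [← Subgroup.coe_inv]
    refine congrArg Subtype.val ?_
    show (y * (k : D.H))⁻¹ = y⁻¹ * (y * (k : D.H)⁻¹ * y⁻¹)
    group

theorem avg_y1_inv (χ : G → ℂ) : D.avg χ (D.y 1)⁻¹ = D.avg χ (D.y 2) := by
  refine D.avg_congr χ ?_
  rw [show (D.y 2)⁻¹ * (D.y 1)⁻¹ = (D.b ^ 3)⁻¹ by
    rw [← mul_inv_rev, y, y, pow_one, mul_assoc, ← mul_assoc D.b, ← (D.T_comm D.b).eq, mul_assoc,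
      ← mul_assoc, D.T_sq, one_mul, ← pow_succ']]
  exact inv_mem D.b_cube

theorem avg_y0_inv (χ : G → ℂ) : D.avg χ (D.y 0)⁻¹ = D.avg χ (D.y 0) := by
  rw [show (D.y 0)⁻¹ = D.y 0 by
    rw [y, pow_zero, mul_one]; exact inv_eq_of_mul_eq_one_right D.T_sq]

theorem principal_avg {M : Ideal AlgInt} (hM : IsPModular 2 M) (χ : IrrCharacter G) {w : D.H}
    (hw : ¬ 2 ∣ orderOf w) :
    D.avg (χ : G → ℂ) (D.T * w) = ind (principalBlock M G) χ * (χ : G → ℂ) ((D.T * w : D.H) : G) := by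
  classical
  haveI : Fact (Nat.Prime 2) := ⟨Nat.prime_two⟩
  have hH : IsCentr D.t D.H := isCentr_singleton D.t
  have hx : ∃ k : ℕ, orderOf D.t = 2 ^ k := ⟨1, by rw [D.order_t, pow_one]⟩
  have hU : ∀ ψ : IrrCharacter D.H, ψ ∈ principalBlock M D.H ↔
      ∀ n ∈ D.O, (ψ : D.H → ℂ) n = (ψ : D.H → ℂ) 1 := by
    intro ψ
    refine ⟨fun h n hn => principal_kernel hM D.O_odd h hn, fun h => ?_⟩
    haveI := Fintype.ofFinite (D.H ⧸ D.O)
    haveI := D.solvable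
    haveI : Group.IsSolvable (D.H ⧸ D.O) :=
      Group.isSolvable_of_surjective (QuotientGroup.mk'_surjective D.O)
    have hbot : pPrimeCore 2 (D.H ⧸ D.O) = ⊥ := pPrimeCore_quotient_of_eq D.constrained
    obtain ⟨ψ', hψ', he⟩ := exists_quotient_irr D.O ψ.2 h
    obtain ⟨ω, hω, he1⟩ := exists_quotient_irr D.O (oneIrr D.H).2 fun _ _ => rfl
    have e1 : Inflation.inflIrr D.O ⟨ψ', hψ'⟩ = ψ := Subtype.ext he.symm
    have e2 : Inflation.inflIrr D.O ⟨ω, hω⟩ = oneIrr D.H := Subtype.ext he1.symm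
    show SameBlock M ((oneIrr D.H : IrrCharacter D.H) : D.H → ℂ) (ψ : D.H → ℂ)
    rw [← e1, ← e2, sameBlock_iff_res hM]
    intro g
    exact Inflation.res_clv_ascend hM D.O g ((sameBlock_iff_res hM _ _).1
      (Blocks.sameBlock_all hM (pCore 2 (D.H ⧸ D.O)) (isPGroup_pCore 2)
        (centralizer_pCore_le Nat.prime_two hbot) ⟨ω, hω⟩ ⟨ψ', hψ'⟩) _)
  have h1 := sec_eq_overBlocks hM hH hx (principalBlock_isPBlock (M := M)) χ (y := w) hw
  rw [overBlocks_principal hM hH hx] at h1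
  have h2 : (χ : G → ℂ) ((D.T * w : D.H) : G) = (χ : G → ℂ) (D.t * (w : G)) := rfl
  rw [h2, ← h1]
  have hexp := eq_sum_irr (sec_isClassFunction hH χ)
  have havg : D.avg (χ : G → ℂ) (D.T * w) =
      (Nat.card D.O : ℂ)⁻¹ * ∑ k : D.O, sec D.t D.H (χ : G → ℂ) ((k : D.H) * w) := by
    unfold avg
    congr 1
    refine Fintype.sum_bijective (fun k : D.O => (⟨w * (k : D.H) * w⁻¹,
      D.O_normal.conj_mem _ k.2 w⟩ : D.O)) ?_ _ _ fun k => ?_
    · exact Finite.injective_iff_bijective.1 fun k k' e => by simpa using e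
    · show _ = (χ : G → ℂ) (D.t * ((w * k * w⁻¹ * w : D.H) : G))
      rw [inv_mul_cancel_right]
      congr 1
      simp [T, mul_assoc]
  have hψ : ∀ ψ : IrrCharacter D.H, (Nat.card D.O : ℂ)⁻¹ * ∑ k : D.O, (ψ : D.H → ℂ) ((k : D.H) * w) =
      ind (principalBlock M D.H) ψ * (ψ : D.H → ℂ) w := by
    intro ψ
    have h3 := sum_classFun_mul_shift (avgFn_isClassFunction D.O) ψ w
    have h4 : ∑ x : D.H, avgFn D.O x * (ψ : D.H → ℂ) (x * w) =
        (Nat.card D.O : ℂ)⁻¹ * ∑ k : D.O, (ψ : D.H → ℂ) ((k : D.H) * w) := by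
      rw [Finset.mul_sum, ← Finset.sum_subset (Finset.subset_univ (Finset.univ.filter (· ∈ D.O)))
        (fun x _ hx => by rw [avgFn, if_neg (by simpa using hx), zero_mul])]
      rw [← Finset.sum_subtype_eq_sum_filter, Finset.subtype_univ]
      refine Finset.sum_congr (by ext; simp) fun k _ => ?_
      rw [avgFn, if_pos k.2]
    rw [← h4, h3]
    congr 1
    by_cases hψ : ψ ∈ principalBlock M D.H
    · rw [ind_of_mem hψ, (omega_avgFn D.O ψ).2.2 ((hU ψ).1 hψ)]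
    · rw [ind_of_notMem hψ]
      exact (omega_avgFn D.O ψ).1.resolve_right fun h5 => hψ ((hU ψ).2 ((omega_avgFn D.O ψ).2.1 h5))
  rw [havg, blockPart_apply, ← sum_ind_mul]
  conv_lhs => rw [hexp]
  simp only [Finset.sum_apply, Pi.smul_apply, smul_eq_mul]
  rw [Finset.sum_comm, Finset.mul_sum]
  refine Finset.sum_congr rfl fun ψ _ => ?_
  rw [← Finset.mul_sum, mul_left_comm, hψ ψ]
  ring

theorem no_product {i : ℕ} (hi1 : 1 ≤ i) (hi : i < 3) (k : D.O) {u v : G} (hu : u * u = 1)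
    (hv : v * v = 1) : u * v ≠ ((D.y i * k : D.H) : G) := by
  intro e
  set x := ((D.y i * k : D.H) : G) with hx
  have hinv : u * x * u⁻¹ = x⁻¹ := by
    rw [← e, mul_inv_rev, inv_eq_of_mul_eq_one_right hu, inv_eq_of_mul_eq_one_right hv,
      ← mul_assoc, hu, one_mul]
  obtain ⟨j, hj, hji, k', hk'⟩ : ∃ j < 3, i ≠ j ∧ ∃ k' : D.O, x⁻¹ = ((D.y j * k' : D.H) : G) := by
    refine ⟨3 - i, by omega, by omega, ⟨(D.y (3 - i))⁻¹ * (D.y i * k)⁻¹, ?_⟩, ?_⟩
    · rw [← QuotientGroup.eq_one_iff, QuotientGroup.mk_mul, QuotientGroup.mk_inv, QuotientGroup.mk_inv,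
        QuotientGroup.mk_mul, (QuotientGroup.eq_one_iff (k : D.H)).2 k.2, mul_one, ← mul_inv_rev,
        inv_eq_one, ← QuotientGroup.mk_mul, QuotientGroup.eq_one_iff]
      rw [y, y, mul_assoc, ← mul_assoc (D.b ^ i), ← (D.T_comm (D.b ^ i)).eq, mul_assoc, ← mul_assoc,
        D.T_sq, one_mul, ← pow_add, show i + (3 - i) = 3 by omega]
      exact D.b_cube
    · rw [hx, ← Subgroup.coe_inv]
      congr 1
      group
  rw [hk', hx] at hinv
  have hz := D.mem_H_of_conj hinv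
  have he : (⟨u, hz⟩ : D.H) * (D.y i * k) * (⟨u, hz⟩ : D.H)⁻¹ = D.y j * k' := Subtype.ext hinv
  have hmem : (D.y j)⁻¹ * ((⟨u, hz⟩ : D.H) * D.y i * (⟨u, hz⟩ : D.H)⁻¹) ∈ D.O := by
    have h2 : (D.y j)⁻¹ * ((⟨u, hz⟩ : D.H) * (D.y i * k) * (⟨u, hz⟩ : D.H)⁻¹) ∈ D.O := by
      rw [he, inv_mul_cancel_left]; exact k'.2
    rw [show (D.y j)⁻¹ * ((⟨u, hz⟩ : D.H) * (D.y i * k) * (⟨u, hz⟩ : D.H)⁻¹) =
      ((D.y j)⁻¹ * ((⟨u, hz⟩ : D.H) * D.y i * (⟨u, hz⟩ : D.H)⁻¹)) *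
        ((⟨u, hz⟩ : D.H) * k * (⟨u, hz⟩ : D.H)⁻¹) by group] at h2
    exact (D.O.mul_mem_cancel_right (D.O_normal.conj_mem _ k.2 _)).1 h2
  have h0 := D.count_ne hi hj hji
  haveI : Nonempty {z : D.H // (D.y j)⁻¹ * (z * D.y i * z⁻¹) ∈ D.O} := ⟨⟨_, hmem⟩⟩
  exact Nat.card_pos.ne' h0

/-- The structure constant of two involutions and an element of a fibre vanishes. -/
theorem sum_sq_avg {i : ℕ} (hi1 : 1 ≤ i) (hi : i < 3) :
    ∑ χ : IrrCharacter G, (χ : G → ℂ) D.t * ((χ : G → ℂ) D.t / (χ : G → ℂ) 1) *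
      conj (D.avg (χ : G → ℂ) (D.y i)) = 0 := by
  classical
  have hG : (Nat.card G : ℂ) ≠ 0 := Nat.cast_ne_zero.2 Nat.card_pos.ne'
  have htt : D.t * D.t = 1 := D.sq _ D.t_mem
  have h : ∀ k : D.O, ∑ χ : IrrCharacter G, (χ : G → ℂ) D.t * ((χ : G → ℂ) D.t / (χ : G → ℂ) 1) *
      conj ((χ : G → ℂ) ((D.y i * k : D.H) : G)) = 0 := by
    intro k
    refine mul_left_cancel₀ hG ?_
    rw [mul_zero, Finset.mul_sum, Finset.sum_congr rfl fun (χ : IrrCharacter G) _ => show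
      (Nat.card G : ℂ) * ((χ : G → ℂ) D.t * ((χ : G → ℂ) D.t / (χ : G → ℂ) 1) *
        conj ((χ : G → ℂ) ((D.y i * k : D.H) : G))) =
      ∑ g : G, (χ : G → ℂ) (g * D.t * g⁻¹ * D.t) * conj ((χ : G → ℂ) ((D.y i * k : D.H) : G)) by
        rw [← Finset.sum_mul, ZStar.sum_conj_shift χ D.t D.t]; ring]
    rw [Finset.sum_comm]
    refine Finset.sum_eq_zero fun g _ => ?_
    rw [sum_irr_eq_card]
    haveI : IsEmpty {z : G // z * (g * D.t * g⁻¹ * D.t) * z⁻¹ = ((D.y i * k : D.H) : G)} := ⟨fun z => by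
      refine D.no_product hi1 hi k (u := z.1 * (g * D.t * g⁻¹) * z.1⁻¹) (v := z.1 * D.t * z.1⁻¹)
        ?_ ?_ ((show _ = _ by group).trans z.2)
      · rw [show z.1 * (g * D.t * g⁻¹) * z.1⁻¹ * (z.1 * (g * D.t * g⁻¹) * z.1⁻¹) =
          z.1 * g * (D.t * D.t) * g⁻¹ * z.1⁻¹ by group, htt]; group
      · rw [show z.1 * D.t * z.1⁻¹ * (z.1 * D.t * z.1⁻¹) = z.1 * (D.t * D.t) * z.1⁻¹ by group,
          htt]; group⟩
    rw [Nat.card_of_isEmpty, Nat.cast_zero]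
  simp only [avg, map_mul, map_inv₀, map_natCast, map_sum, Finset.mul_sum]
  rw [Finset.sum_comm]
  refine Finset.sum_eq_zero fun k _ => ?_
  rw [Finset.sum_congr rfl fun χ _ => mul_left_comm _ _ _, ← Finset.mul_sum, h k, mul_zero]

end Data

end CfsgLib.E8Solv
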